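import Cfsg.Agent.Lib.ShultGross.Basic
import Cfsg.Agent.Lib.FourPrimes.Basic
import Cfsg.Agent.Lib.HallHigman.Free
import Cfsg.Agent.Lib.Solvable.FixedPointFree
import Cfsg.Agent.Lib.PGroup.Basic
import Mathlib

/-!
An automorphism of odd prime power order, fixed point free on an `r`-group and on a module of it:
its power of order `p` centralizes the image of the `r`-group.
-/

set_option autoImplicit false
set_option linter.style.haveILetI false
open scoped commutatorElement

namespace CfsgLib.ShultGross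

universe u v w

theorem pow_fixed {R : Type*} [Group R] {τ : MulAut R} {u : R} (h : τ u = u) :
    ∀ k : ℕ, (τ ^ k) u = u := by
  intro k
  induction k with
  | zero => rfl
  | succ k ih => rw [pow_succ, MulAut.mul_apply, h, ih]

theorem center_invariant {R : Type*} [Group R] (θ : MulAut R) {u : R}
    (hu : u ∈ Subgroup.center R) : θ u ∈ Subgroup.center R :=
  Subgroup.characteristic_iff_le_comap.1 inferInstance θ hu

theorem commutator_pow {R : Type*} [Group R] (hcl : ∀ a b : R, ⁅a, b⁆ ∈ Subgroup.center R)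
    (u v : R) : ∀ k : ℕ, ⁅u ^ k, v⁆ = ⁅u, v⁆ ^ k := by
  intro k
  induction k with
  | zero => simp
  | succ k ih =>
    have h1 : u ^ k * ⁅u, v⁆ = ⁅u, v⁆ * u ^ k := Subgroup.mem_center_iff.1 (hcl u v) _
    calc ⁅u ^ (k + 1), v⁆ = u ^ k * ⁅u, v⁆ * (u ^ k)⁻¹ * ⁅u ^ k, v⁆ := by
          rw [pow_succ]; simp only [commutatorElement_def]; group
      _ = ⁅u, v⁆ ^ (k + 1) := by rw [h1, mul_inv_cancel_right, ih, pow_succ']

variable {K : Type w} [Field K]

theorem cast_mul_eq_zero {W : Type*} [AddCommGroup W] [Module K W] {c : ℕ} (hc : (c : K) ≠ 0)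
    {x : Module.End K W} (hx : (c : Module.End K W) * x = 0) : x = 0 := by
  rw [← nsmul_eq_mul, ← Nat.cast_smul_eq_nsmul K] at hx
  exact (smul_eq_zero.1 hx).resolve_left hc

set_option maxHeartbeats 1600000 in
/-- The minimal configuration. -/
theorem reduced {p r n : ℕ} [hp : Fact p.Prime] [hr : Fact r.Prime] (hp2 : p ≠ 2) (hpr : p ≠ r)
    [IsAlgClosed K] (hrK : (r : K) ≠ 0) (hpK : (p : K) ≠ 0) {R : Type u} [Group R] [Finite R]
    (hR : IsPGroup r R) (σ : MulAut R) (hσ : σ ^ p ^ (n + 1) = 1) (hfpf : ∀ u, σ u = u → u = 1)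
    {W : Type v} [AddCommGroup W] [Module K W] [FiniteDimensional K W] (ρ : R →* Module.End K W)
    (hinj : Function.Injective ρ) (X : Module.End K W) (hconj : ∀ u, X * ρ u = ρ (σ u) * X)
    (hX : X ^ p ^ (n + 1) = 1) (hsum : ∑ i ∈ Finset.range (p ^ (n + 1)), X ^ i = 0)
    (hmin : ∀ U : Subgroup R, U ≠ ⊤ → (∀ u ∈ U, σ u ∈ U) → ∀ u ∈ U, (σ ^ p ^ n) u = u) :
    ∀ u : R, (σ ^ p ^ n) u = u := by
  classical
  by_contra hmoved
  push Not at hmoved
  obtain ⟨u₀, hu₀⟩ := hmoved
  set N0 := p ^ (n + 1) with hN0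
  set z := σ ^ p ^ n with hz
  have hzp : z ^ p = 1 := by rw [hz, ← pow_mul, ← pow_succ, hσ]
  have hzσ : ∀ u, σ (z u) = z (σ u) := fun u => by
    rw [← MulAut.mul_apply, ← MulAut.mul_apply, hz, ← pow_succ', ← pow_succ]
  have hN0pos : 0 < N0 := pow_pos hp.out.pos _
  haveI : Fintype R := Fintype.ofFinite R
  have hncop : ∀ N : Subgroup R, ¬ p ∣ Nat.card N := by
    intro N hd
    obtain ⟨k, hk⟩ := (hR.to_subgroup N).exists_card_eq
    exact hpr ((Nat.prime_dvd_prime_iff_eq hp.out hr.out).1 (hp.out.dvd_of_dvd_pow (hk ▸ hd)))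
  have hcardK : ∀ {c : ℕ}, c ∣ Nat.card R → (c : K) ≠ 0 := by
    intro c hc
    obtain ⟨k, hk⟩ := hR.exists_card_eq
    obtain ⟨j, -, rfl⟩ := (Nat.dvd_prime_pow hr.out).1 (hk ▸ hc)
    rw [Nat.cast_pow]
    exact pow_ne_zero _ hrK
  have hzfix : ∀ {i : ℕ} {u : R}, 0 < i → i < N0 → (σ ^ i) u = u → z u = u := by
    intro i u hi hiN hu
    obtain ⟨k, hk⟩ := exists_pow_eq_pow hp.out hi hiN
    have h := pow_fixed hu k
    rwa [← pow_mul, pow_eq_pow_mod _ hσ, hN0, hk] at h
  have hXpow : ∀ (i : ℕ) (u : R), X ^ i * ρ u = ρ ((σ ^ i) u) * X ^ i := by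
    intro i
    induction i with
    | zero => intro u; simp
    | succ i ih =>
      intro u
      rw [pow_succ, mul_assoc, hconj, ← mul_assoc, ih, mul_assoc, pow_succ, MulAut.mul_apply]
  set C : Subgroup R := z.toMonoidHom.eqLocus (MonoidHom.id R) with hCdef
  have hC : ∀ u, u ∈ C ↔ z u = u := fun u => Iff.rfl
  have hCtop : C ≠ ⊤ := fun e => hu₀ ((hC u₀).1 (e ▸ Subgroup.mem_top u₀))
  have hfixcoset : ∀ (N : Subgroup R), (∀ x ∈ N, z x ∈ N) → ∀ u, u⁻¹ * z u ∈ N →
      ∃ c ∈ N, u * c ∈ C := fun N hN u hu =>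
    exists_fixed_mem_coset (p := p) (k := 1) z (by rw [pow_one, hzp]) N hN (hncop N) hu
  -- the commutator with `z` is everything
  set D := Subgroup.closure {y : R | ∃ v, y = v⁻¹ * z v} with hD
  have hgen : ∀ v : R, v⁻¹ * z v ∈ D := fun v => Subgroup.subset_closure ⟨v, rfl⟩
  have hDinv : ∀ u ∈ D, σ u ∈ D := by
    have h : D ≤ D.comap σ.toMonoidHom := by
      rw [hD, Subgroup.closure_le]
      rintro _ ⟨v, rfl⟩
      show σ (v⁻¹ * z v) ∈ D
      rw [map_mul, map_inv, hzσ]
      exact hgen _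
    exact fun u hu => h hu
  have hDtop : D = ⊤ := by
    by_contra hne
    have hfix := hmin D hne hDinv
    haveI : D.Normal := by
      refine ⟨fun y hy g => ?_⟩
      have h : D ≤ D.comap (MulAut.conj g).toMonoidHom := by
        rw [hD, Subgroup.closure_le]
        rintro _ ⟨v, rfl⟩
        show g * (v⁻¹ * z v) * g⁻¹ ∈ D
        rw [show g * (v⁻¹ * z v) * g⁻¹ = (v * g⁻¹)⁻¹ * z (v * g⁻¹) * ((g⁻¹)⁻¹ * z g⁻¹)⁻¹ by
          rw [map_mul]; group]
        exact mul_mem (hgen _) (inv_mem (hgen _))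
      exact h hy
    refine hu₀ ?_
    obtain ⟨c, hc, huc⟩ := hfixcoset D (fun x hx => by rw [hfix x hx]; exact hx) u₀ (hgen u₀)
    have h2 : z c = c := hfix c hc
    have h1 : z (u₀ * c) = u₀ * c := (hC _).1 huc
    rw [map_mul, h2] at h1
    exact mul_right_cancel h1
  have hcentral : ∀ M : Subgroup R, M.Normal → (∀ f ∈ M, z f = f) → M ≤ Subgroup.center R := by
    intro M hM hfix f hf
    have h : D ≤ Subgroup.centralizer {f} := by
      rw [hD, Subgroup.closure_le]
      rintro _ ⟨v, rfl⟩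
      rw [SetLike.mem_coe, Subgroup.mem_centralizer_singleton_iff]
      have h1 := hfix _ (hM.conj_mem f hf v)
      rw [map_mul, map_mul, map_inv, hfix f hf] at h1
      calc v⁻¹ * z v * f = v⁻¹ * (z v * f * (z v)⁻¹) * z v := by group
        _ = f * (v⁻¹ * z v) := by rw [h1]; group
    rw [hDtop] at h
    exact Subgroup.mem_center_iff.2 fun g =>
      Subgroup.mem_centralizer_singleton_iff.1 (h (Subgroup.mem_top g))
  haveI := hR.isNilpotent
  haveI hntR : Nontrivial R := ⟨⟨z u₀, u₀, hu₀⟩⟩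
  have hΦtop : frattini R ≠ ⊤ := by
    intro e
    obtain ⟨M, hM, -⟩ := (eq_top_or_exists_le_coatom (⊥ : Subgroup R)).resolve_left bot_ne_top
    exact hM.1 (eq_top_iff.2 (e ▸ frattini_le_coatom hM))
  have hΦinv : ∀ (θ : MulAut R), ∀ u ∈ frattini R, θ u ∈ frattini R := fun θ u hu =>
    Subgroup.characteristic_iff_le_comap.1 inferInstance θ hu
  have hΦC : frattini R ≤ C := fun u hu => hmin _ hΦtop (hΦinv σ) u hu
  have hΦZ : frattini R ≤ Subgroup.center R := hcentral _ inferInstance fun f hf => hΦC hf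
  have hcomm : ∀ a b : R, ⁅a, b⁆ ∈ frattini R := fun a b =>
    CfsgLib.PGroup.commutator_le_frattini hR
      (Subgroup.commutator_mem_commutator (Subgroup.mem_top a) (Subgroup.mem_top b))
  have hCn : C.Normal := ⟨fun c hc g => by
    rw [show g * c * g⁻¹ = ⁅g, c⁆ * c by simp only [commutatorElement_def]; group]
    exact mul_mem (hΦC (hcomm g c)) hc⟩
  have hCZ : C ≤ Subgroup.center R := hcentral C hCn fun f hf => hf
  by_cases hab : ∀ a b : R, a * b = b * a
  · -- abelian case
    letI : CommGroup R := { (inferInstance : Group R) with mul_comm := hab }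
    let Nm : R →* R := MonoidHom.mk' (fun v => ∏ i ∈ Finset.range p, (z ^ i) v) fun a b => by
      rw [← Finset.prod_mul_distrib]
      exact Finset.prod_congr rfl fun i _ => map_mul _ _ _
    have hNmz : ∀ v, Nm (z v) = Nm v := by
      intro v
      show ∏ i ∈ Finset.range p, (z ^ i) (z v) = ∏ i ∈ Finset.range p, (z ^ i) v
      have h1 := Finset.prod_range_succ (fun i => (z ^ i) v) p
      have h2 := Finset.prod_range_succ' (fun i => (z ^ i) v) p
      simp only [pow_succ, MulAut.mul_apply, pow_zero, MulAut.one_apply, hzp] at h1 h2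
      rw [h1] at h2
      exact (mul_right_cancel h2).symm
    have hNm1 : D ≤ Nm.ker := by
      rw [hD, Subgroup.closure_le]
      rintro _ ⟨v, rfl⟩
      rw [SetLike.mem_coe, MonoidHom.mem_ker, map_mul, map_inv, hNmz, inv_mul_cancel]
    have hC1 : ∀ u, z u = u → u = 1 := by
      intro u hu
      have h : Nm u = 1 := hNm1 (hDtop ▸ Subgroup.mem_top u)
      have h' : u ^ p = 1 := by
        rw [← h]
        show u ^ p = ∏ i ∈ Finset.range p, (z ^ i) u
        rw [Finset.prod_congr rfl fun i _ => pow_fixed hu i, Finset.prod_const, Finset.card_range]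
      obtain ⟨k, hk⟩ := hR u
      have hco : Nat.Coprime p (r ^ k) :=
        Nat.Coprime.pow_right k ((Nat.coprime_primes hp.out hr.out).2 hpr)
      have h2 := pow_gcd_eq_one.2 ⟨h', hk⟩
      rwa [hco.gcd_eq_one, pow_one] at h2
    let γ : (Module.End K W)ˣ :=
      ⟨X, X ^ (N0 - 1), by rw [← pow_succ', Nat.sub_add_cancel hN0pos, hX],
        by rw [← pow_succ, Nat.sub_add_cancel hN0pos, hX]⟩
    have hγconj : ∀ (i : ℕ) (u : R), γ ^ i * ρ.toHomUnits u * (γ ^ i)⁻¹ = ρ.toHomUnits ((σ ^ i) u) := by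
      intro i u
      rw [mul_inv_eq_iff_eq_mul]
      refine Units.ext ?_
      rw [Units.val_mul, Units.val_mul, Units.val_pow_eq_pow_val, MonoidHom.coe_toHomUnits,
        MonoidHom.coe_toHomUnits]
      exact hXpow i u
    have htinj : ∀ {a b : R}, ρ.toHomUnits a = ρ.toHomUnits b → a = b := fun e => hinj <| by
      have := congrArg Units.val e
      simpa using this
    haveI : Finite ρ.toHomUnits.range :=
      Finite.of_surjective ρ.toHomUnits.rangeRestrict ρ.toHomUnits.rangeRestrict_surjective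
    have hall := CfsgLib.FourPrimes.avg_lemma ρ.toHomUnits.range
      (by rintro _ ⟨a, rfl⟩ _ ⟨b, rfl⟩; rw [← map_mul, ← map_mul, hab]) γ
      (by
        rintro _ ⟨a, rfl⟩
        refine ⟨σ a, ?_⟩
        have := hγconj 1 a
        rw [pow_one, pow_one] at this
        exact this.symm)
      hN0pos hsum
      (by
        rintro i hi hiN _ ⟨a, rfl⟩ e
        rw [hγconj] at e
        rw [hC1 a (hzfix hi hiN (htinj e))]
        simp)
      (fun x hx => cast_mul_eq_zero (hcardK (Subgroup.card_range_dvd _)) hx)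
    refine hu₀ ?_
    have h1 := hall _ ⟨u₀, rfl⟩
    have h2 := hγconj 1 u₀
    rw [pow_one, pow_one] at h2
    rw [h2] at h1
    rw [hfpf u₀ (htinj h1), map_one]
  -- nonabelian case
  push Not at hab
  obtain ⟨a₀, b₀, hab₀⟩ := hab
  have hZtop : Subgroup.center R ≠ ⊤ := fun e =>
    hab₀ (Subgroup.mem_center_iff.1 (e ▸ Subgroup.mem_top b₀) a₀)
  have hZC : Subgroup.center R ≤ C := fun u hu => hmin _ hZtop (fun v hv => center_invariant σ hv) u hu
  have hcl : ∀ a b : R, ⁅a, b⁆ ∈ Subgroup.center R := fun a b => hΦZ (hcomm a b)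
  set e := ⁅a₀, b₀⁆ with he
  have he1 : e ≠ 1 := fun h => hab₀ (commutatorElement_eq_one_iff_mul_comm.1 h)
  have heZ : e ∈ Subgroup.center R := hcl a₀ b₀
  have hρcomm : ∀ {ζ : R}, ζ ∈ Subgroup.center R → ∀ (g : R) (w : W), ρ ζ (ρ g w) = ρ g (ρ ζ w) := by
    intro ζ hζ g w
    rw [← Module.End.mul_apply, ← Module.End.mul_apply, ← map_mul, ← map_mul, Subgroup.mem_center_iff.1 hζ g]
  -- an eigenspace of the centre
  set U := LinearMap.range (ρ e - 1) with hU
  have hUinv : ∀ g, ∀ w ∈ U, ρ g w ∈ U := by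
    rintro g _ ⟨w, rfl⟩
    exact ⟨ρ g w, by simp [hρcomm heZ]⟩
  have hUne : U ≠ ⊥ := by
    rw [Ne, hU, LinearMap.range_eq_bot, sub_eq_zero]
    intro h
    exact he1 (hinj (h.trans (map_one ρ).symm))
  obtain ⟨W0, ⟨hW0, hW0U, hW0inv⟩, hW0min⟩ := wellFounded_lt.has_min
    {W' : Submodule K W | W' ≠ ⊥ ∧ W' ≤ U ∧ ∀ g, ∀ w ∈ W', ρ g w ∈ W'} ⟨U, hUne, le_rfl, hUinv⟩
  haveI : Nontrivial W0 := Submodule.nontrivial_iff_ne_bot.2 hW0
  have hscal : ∀ ζ : R, ∃ c : K, ζ ∈ Subgroup.center R → ∀ w ∈ W0, ρ ζ w = c • w := by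
    intro ζ
    by_cases hζ : ζ ∈ Subgroup.center R
    swap
    · exact ⟨0, fun h => absurd h hζ⟩
    obtain ⟨c, hc⟩ := Module.End.exists_eigenvalue ((ρ ζ).restrict (fun w hw => hW0inv ζ w hw) : Module.End K W0)
    obtain ⟨⟨v, hvW⟩, hv, hv0⟩ := hc.exists_hasEigenvector
    refine ⟨c, fun _ w hw => ?_⟩
    have hW' : W0 ⊓ Module.End.eigenspace (ρ ζ) c = W0 := by
      refine inf_le_left.eq_of_not_lt (hW0min _ ⟨?_, inf_le_left.trans hW0U, ?_⟩)
      · intro h
        have hv' : v ∈ W0 ⊓ Module.End.eigenspace (ρ ζ) c :=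
          ⟨hvW, Module.End.mem_eigenspace_iff.2 (congrArg Subtype.val (Module.End.mem_eigenspace_iff.1 hv))⟩
        rw [h, Submodule.mem_bot] at hv'
        exact hv0 (Subtype.ext hv')
      · intro g x hx
        refine ⟨hW0inv g x hx.1, Module.End.mem_eigenspace_iff.2 ?_⟩
        rw [hρcomm hζ, Module.End.mem_eigenspace_iff.1 hx.2, map_smul]
    exact Module.End.mem_eigenspace_iff.1 (hW'.ge hw).2
  choose lam hlam using hscal
  obtain ⟨w₀, hw₀, hw₀0⟩ := Submodule.exists_mem_ne_zero_of_ne_bot hW0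
  have hlam1 : lam 1 = 1 := smul_left_injective K hw₀0 (by
    have := hlam 1 (one_mem _) w₀ hw₀
    rw [map_one, Module.End.one_apply] at this
    show lam 1 • w₀ = (1 : K) • w₀
    rw [one_smul, ← this])
  have hlammul : ∀ a ∈ Subgroup.center R, ∀ b ∈ Subgroup.center R, lam (a * b) = lam a * lam b :=
    fun a ha b hb => smul_left_injective K hw₀0 (by
      show lam (a * b) • w₀ = (lam a * lam b) • w₀
      rw [← hlam _ (mul_mem ha hb) w₀ hw₀, map_mul, Module.End.mul_apply, hlam b hb w₀ hw₀, map_smul,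
        hlam a ha w₀ hw₀, smul_smul, mul_comm])
  have hlame : lam e ≠ 1 := by
    intro h
    obtain ⟨x, hx⟩ := hW0U hw₀
    have hfix : ρ e w₀ = w₀ := by rw [hlam e heZ w₀ hw₀, h, one_smul]
    have hm := mul_geom_sum (ρ e) (orderOf e)
    rw [← map_pow, pow_orderOf_eq_one, map_one, sub_self] at hm
    have h1 : (∑ i ∈ Finset.range (orderOf e), ρ e ^ i) w₀ = 0 := by
      rw [← hx, ← Module.End.mul_apply, geom_sum_mul, ← map_pow, pow_orderOf_eq_one, map_one, sub_self,
        LinearMap.zero_apply]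
    have hp' : ∀ i : ℕ, (ρ e ^ i) w₀ = w₀ := by
      intro i
      induction i with
      | zero => rfl
      | succ i ih => rw [pow_succ, Module.End.mul_apply, hfix, ih]
    rw [LinearMap.sum_apply] at h1
    simp only [hp', Finset.sum_const, Finset.card_range, ← Nat.cast_smul_eq_nsmul K] at h1
    exact hw₀0 ((smul_eq_zero.1 h1).resolve_left (hcardK (orderOf_dvd_natCard e)))
  -- periods of the eigenvalue system
  let L : ℕ → R → K := fun i ζ => lam ((σ⁻¹ ^ i) ζ)
  let Per : ℕ → Prop := fun i => ∀ ζ ∈ Subgroup.center R, L i ζ = lam ζ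
  have hPadd : ∀ i j, Per i → (Per (i + j) ↔ Per j) := by
    intro i j hi
    refine forall₂_congr fun ζ hζ => ?_
    show lam ((σ⁻¹ ^ (i + j)) ζ) = _ ↔ lam ((σ⁻¹ ^ j) ζ) = _
    rw [pow_add, MulAut.mul_apply, show lam ((σ⁻¹ ^ i) ((σ⁻¹ ^ j) ζ)) = lam ((σ⁻¹ ^ j) ζ) from
      hi _ (center_invariant _ hζ)]
  have hPn : Per (p ^ n) := by
    intro ζ hζ
    show lam ((σ⁻¹ ^ p ^ n) ζ) = _
    rw [inv_pow, ← hz]
    congr 1
    conv_lhs => rw [← (hC ζ).1 (hZC hζ)]
    simp
  have hexper : ∃ i, 0 < i ∧ Per i := ⟨p ^ n, pow_pos hp.out.pos n, hPn⟩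
  set per := Nat.find hexper with hper
  obtain ⟨hper0, hperP⟩ := Nat.find_spec hexper
  have hpermul : ∀ k, Per (per * k) := by
    intro k
    induction k with
    | zero => intro ζ _; rfl
    | succ k ih => rw [Nat.mul_succ]; exact ((hPadd _ _ ih).2 hperP)
  have hperdvd : per ∣ p ^ n := by
    refine Nat.dvd_of_mod_eq_zero ?_
    by_contra h0
    have h := (hPadd _ (p ^ n % per) (hpermul (p ^ n / per))).1 (by rw [Nat.div_add_mod]; exact hPn)
    exact absurd (Nat.find_min' hexper ⟨Nat.pos_of_ne_zero h0, h⟩) (not_le.2 (Nat.mod_lt _ hper0))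
  obtain ⟨a, han, hpa⟩ := (Nat.dvd_prime_pow hp.out).1 hperdvd
  have ha0 : a ≠ 0 := by
    rintro rfl
    rw [pow_zero] at hpa
    have h1 : Per 1 := hpa ▸ hperP
    let f : Subgroup.center R → Subgroup.center R := fun ζ =>
      ⟨((σ⁻¹ : MulAut R) (ζ : R))⁻¹ * (ζ : R), mul_mem (inv_mem (center_invariant _ ζ.2)) ζ.2⟩
    have hf : Function.Injective f := by
      intro x y hxy
      have h2 : ((σ⁻¹ : MulAut R) (x : R))⁻¹ * (x : R) = ((σ⁻¹ : MulAut R) (y : R))⁻¹ * (y : R) :=
        congrArg Subtype.val hxy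
      refine Subtype.ext (mul_inv_eq_one.1 (hfpf _ ?_))
      have h3 : (σ⁻¹ : MulAut R) ((x : R) * (y : R)⁻¹) = (x : R) * (y : R)⁻¹ := by
        rw [map_mul, map_inv, ← mul_inv_eq_iff_eq_mul.2 (eq_mul_of_inv_mul_eq h2)]
        group
      conv_lhs => rw [← h3]
      simp
    obtain ⟨⟨ζ, hζ⟩, hfζ⟩ := Finite.surjective_of_injective hf ⟨e, heZ⟩
    have hfζ' : ((σ⁻¹ : MulAut R) ζ)⁻¹ * ζ = e := congrArg Subtype.val hfζ
    refine hlame ?_
    have h2 : lam ((σ⁻¹ : MulAut R) ζ) = lam ζ := by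
      have := h1 ζ hζ
      rwa [show L 1 ζ = lam ((σ⁻¹ : MulAut R) ζ) by show lam _ = _; rw [pow_one]] at this
    have hζ' : (σ⁻¹ : MulAut R) ζ ∈ Subgroup.center R := center_invariant _ hζ
    have h3 : lam ((σ⁻¹ : MulAut R) ζ) * lam e = lam ζ := by
      rw [← hlammul _ hζ' e heZ, ← hfζ', mul_inv_cancel_left]
    rw [h2] at h3
    have hne : lam ζ ≠ 0 := by
      intro h0
      have := hlammul ζ hζ ζ⁻¹ (inv_mem hζ)
      rw [mul_inv_cancel, hlam1, h0, zero_mul] at this
      exact one_ne_zero this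
    exact mul_left_cancel₀ hne (h3.trans (mul_one _).symm)
  set b := n + 1 - a with hb
  have hb0 : 0 < b := by omega
  have hper1 : 1 < per := by rw [hpa]; exact Nat.one_lt_pow ha0 hp.out.one_lt
  have hN0ab : N0 = per * p ^ b := by rw [hN0, hpa, ← pow_add]; congr 1; omega
  have hdist : ∀ i j, i < j → j < per → ∃ ζ ∈ Subgroup.center R, L i ζ ≠ L j ζ := by
    intro i j hij hj
    by_contra hcon
    push Not at hcon
    refine absurd (Nat.find_min' hexper ⟨show 0 < j - i by omega, fun ζ hζ => ?_⟩)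
      (show ¬ per ≤ j - i by omega)
    have h := hcon _ (center_invariant (σ ^ i) hζ)
    have hcancel : (σ⁻¹ ^ i) ((σ ^ i) ζ) = ζ := by
      rw [← MulAut.mul_apply, inv_pow, inv_mul_cancel]; rfl
    show lam ((σ⁻¹ ^ (j - i)) ζ) = lam ζ
    have h' : lam ((σ⁻¹ ^ i) ((σ ^ i) ζ)) = lam ((σ⁻¹ ^ j) ((σ ^ i) ζ)) := h
    rw [show σ⁻¹ ^ j = σ⁻¹ ^ (j - i) * σ⁻¹ ^ i by rw [← pow_add]; congr 1; omega, MulAut.mul_apply,
      hcancel] at h'
    exact h'.symm
  let Wl : Submodule K W :=
    { carrier := {w | ∀ ζ ∈ Subgroup.center R, ρ ζ w = lam ζ • w}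
      add_mem' := fun {w w'} h h' ζ hζ => by rw [map_add, h ζ hζ, h' ζ hζ, smul_add]
      zero_mem' := fun ζ _ => by rw [map_zero, smul_zero]
      smul_mem' := fun c w h ζ hζ => by rw [map_smul, h ζ hζ, smul_comm] }
  have hWlρ : ∀ g, ∀ w ∈ Wl, ρ g w ∈ Wl := fun g w hw ζ hζ => by rw [hρcomm hζ, hw ζ hζ, map_smul]
  have hWlX : ∀ (i : ℕ), ∀ w ∈ Wl, ∀ ζ ∈ Subgroup.center R, ρ ζ ((X ^ i) w) = L i ζ • (X ^ i) w := by
    intro i w hw ζ hζ
    have hcancel : (σ ^ i) ((σ⁻¹ ^ i) ζ) = ζ := by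
      rw [← MulAut.mul_apply, inv_pow, mul_inv_cancel]; rfl
    have h := LinearMap.congr_fun (hXpow i ((σ⁻¹ ^ i) ζ)) w
    rw [hcancel, Module.End.mul_apply, Module.End.mul_apply, hw _ (center_invariant _ hζ), map_smul] at h
    exact h.symm
  have hWlper : ∀ w ∈ Wl, (X ^ per) w ∈ Wl := fun w hw ζ hζ => by rw [hWlX per w hw ζ hζ, hperP ζ hζ]
  haveI hWln : Nontrivial Wl := Submodule.nontrivial_iff_ne_bot.2 fun h => hw₀0 <| by
    have : w₀ ∈ Wl := fun ζ hζ => hlam ζ hζ w₀ hw₀
    rwa [h, Submodule.mem_bot] at this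
  let A : R →* Module.End K Wl :=
    { toFun := fun g => (ρ g).restrict (fun w hw => hWlρ g w hw)
      map_one' := LinearMap.ext fun w => Subtype.ext (by simp)
      map_mul' := fun g g' => LinearMap.ext fun w => Subtype.ext (by simp) }
  let T : Module.End K Wl := (X ^ per).restrict hWlper
  have hTval : ∀ (j : ℕ) (w : Wl), (((T ^ j) w : Wl) : W) = (X ^ (per * j)) (w : W) := by
    intro j
    induction j with
    | zero => intro w; simp
    | succ j ih =>
      intro w
      rw [pow_succ, Module.End.mul_apply, ih, Nat.mul_succ, pow_add, Module.End.mul_apply]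
      rfl
  have hTN : T ^ p ^ b = 1 := LinearMap.ext fun w => Subtype.ext (by rw [hTval, ← hN0ab, hX]; rfl)
  have hTsum : ∑ j ∈ Finset.range (p ^ b), T ^ j = 0 := by
    refine LinearMap.ext fun w => Subtype.ext ?_
    set Sw : Wl := (∑ j ∈ Finset.range (p ^ b), T ^ j) w with hSw
    have hSwval : (Sw : W) = (∑ j ∈ Finset.range (p ^ b), X ^ (per * j)) (w : W) := by
      rw [hSw, LinearMap.sum_apply, LinearMap.sum_apply, Submodule.coe_sum]
      exact Finset.sum_congr rfl fun j _ => hTval j w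
    have hsplit : ∀ m : ℕ, ∑ k ∈ Finset.range (per * m), X ^ k =
        (∑ i ∈ Finset.range per, X ^ i) * ∑ j ∈ Finset.range m, X ^ (per * j) := by
      intro m
      induction m with
      | zero => simp
      | succ m ih =>
        rw [Nat.mul_succ, Finset.sum_range_add, ih, Finset.sum_range_succ, mul_add, Finset.sum_mul]
        congr 1
        rw [Finset.sum_mul]
        exact Finset.sum_congr rfl fun i _ => by rw [← pow_add, add_comm]
    have h0 : ∑ i ∈ Finset.range per, (X ^ i) (Sw : W) = 0 := by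
      rw [← LinearMap.sum_apply, hSwval, ← Module.End.mul_apply, ← hsplit, ← hN0ab, hsum,
        LinearMap.zero_apply]
    rw [← Fin.sum_univ_eq_sum_range (fun i => (X ^ i) (Sw : W))] at h0
    have h := CfsgLib.HallHigman.weight_indep (K := K) (T := fun ζ : Subgroup.center R => ρ (ζ : R))
      (fun (i : Fin per) (ζ : Subgroup.center R) => L i ζ)
      (fun i j hij => by
        rcases lt_or_gt_of_ne (Fin.val_ne_iff.2 hij) with hlt | hlt
        · obtain ⟨ζ, hζ, hne⟩ := hdist i j hlt j.2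
          exact ⟨⟨ζ, hζ⟩, hne⟩
        · obtain ⟨ζ, hζ, hne⟩ := hdist j i hlt i.2
          exact ⟨⟨ζ, hζ⟩, fun e => hne e.symm⟩)
      Finset.univ (fun i => (X ^ (i : ℕ)) (Sw : W)) (fun i _ ζ => hWlX i Sw Sw.2 ζ ζ.2) h0
      ⟨0, hper0⟩ (Finset.mem_univ _)
    simpa using h
  -- the image
  set τ := σ ^ per with hτ
  have hTconj : ∀ u, T * A u = A (τ u) * T := fun u => LinearMap.ext fun w => Subtype.ext (by
    show (X ^ per) (ρ u w) = ρ (τ u) ((X ^ per) w)
    rw [← Module.End.mul_apply, hXpow, Module.End.mul_apply])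
  let γ : (Module.End K Wl)ˣ := ⟨T, T ^ (p ^ b - 1),
    by rw [← pow_succ', Nat.sub_add_cancel (pow_pos hp.out.pos b), hTN],
    by rw [← pow_succ, Nat.sub_add_cancel (pow_pos hp.out.pos b), hTN]⟩
  have hγconj : ∀ (i : ℕ) (u : R), γ ^ i * A.toHomUnits u * (γ ^ i)⁻¹ = A.toHomUnits ((τ ^ i) u) := by
    intro i
    induction i with
    | zero => intro u; simp
    | succ i ih =>
      intro u
      have h1 : γ * A.toHomUnits u * γ⁻¹ = A.toHomUnits (τ u) := by
        rw [mul_inv_eq_iff_eq_mul]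
        exact Units.ext (hTconj u)
      rw [pow_succ τ, MulAut.mul_apply, ← ih, ← h1, pow_succ γ]
      group
  have hAcongr : ∀ (i : ℕ) (u v : R), A u = A v → A ((τ ^ i) u) = A ((τ ^ i) v) := by
    intro i u v h
    have h' : A.toHomUnits u = A.toHomUnits v := Units.ext h
    have h'' := congrArg Units.val ((hγconj i u).symm.trans (h' ▸ hγconj i v))
    simpa using h''
  have hAker : ∀ i : ℕ, ∀ u, A u = 1 → A ((τ ^ i) u) = 1 := by
    intro i u h
    rw [hAcongr i u 1 (h.trans (map_one A).symm), map_one, map_one]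
  have hzτ : z = τ ^ p ^ (b - 1) := by
    rw [hz, hτ, ← pow_mul, hpa, ← pow_add]
    congr 2
    omega
  have hτN : τ ^ p ^ b = 1 := by rw [hτ, ← pow_mul, ← hN0ab, hσ]
  have hcentA : ∀ ζ ∈ Subgroup.center R, A ζ = lam ζ • (1 : Module.End K Wl) := fun ζ hζ =>
    LinearMap.ext fun w => Subtype.ext (w.2 ζ hζ)
  have hlift : ∀ u, A (z u) = A u → ∃ c : K, A u = c • (1 : Module.End K Wl) := by
    intro u hu
    obtain ⟨c, hc, huc⟩ := hfixcoset A.ker
      (fun x hx => by rw [MonoidHom.mem_ker, hzτ]; exact hAker _ x hx)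
      u (by rw [MonoidHom.mem_ker, map_mul, hu, ← map_mul, inv_mul_cancel, map_one])
    refine ⟨lam (u * c), ?_⟩
    rw [← hcentA _ (hCZ huc), map_mul, MonoidHom.mem_ker.1 hc, mul_one]
  let Rad : Subgroup R :=
    { carrier := {u | ∀ v, Commute (A u) (A v)}
      one_mem' := fun v => by rw [map_one]; exact Commute.one_left _
      mul_mem' := fun {u u'} hu hu' v => by rw [map_mul]; exact (hu v).mul_left (hu' v)
      inv_mem' := fun {u} hu v => by
        rw [show u⁻¹ = u ^ (orderOf u - 1) from inv_eq_of_mul_eq_one_right (by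
          rw [← pow_succ', Nat.sub_add_cancel (orderOf_pos u), pow_orderOf_eq_one]), map_pow]
        exact (hu v).pow_left _ }
  have hscalRad : ∀ u, (∃ c : K, A u = c • (1 : Module.End K Wl)) → u ∈ Rad := fun u ⟨c, hc⟩ v => by
    rw [hc]
    show c • (1 : Module.End K Wl) * A v = A v * (c • 1)
    rw [smul_mul_assoc, one_mul, mul_smul_comm, mul_one]
  have hRadτ : ∀ i : ℕ, ∀ u ∈ Rad, (τ ^ i) u ∈ Rad := by
    intro i u hu v
    have h' : Commute (A.toHomUnits u) (A.toHomUnits (((τ ^ i)⁻¹ : MulAut R) v)) := Units.ext (hu _)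
    have h2 := h'.map (MulAut.conj (γ ^ i)).toMonoidHom
    simp only [MulEquiv.coe_toMonoidHom, MulAut.conj_apply, hγconj] at h2
    rw [show (τ ^ i) (((τ ^ i)⁻¹ : MulAut R) v) = v by simp] at h2
    exact congrArg Units.val h2.eq
  haveI : Finite (Rad.map A.toHomUnits) :=
    Finite.of_surjective (fun x : Rad => (⟨A.toHomUnits x, Subgroup.mem_map_of_mem _ x.2⟩ : Rad.map A.toHomUnits))
      fun ⟨_, x, hx, hxe⟩ => ⟨⟨x, hx⟩, Subtype.ext hxe⟩
  have hRadscal : ∀ u ∈ Rad, ∃ c : K, A u = c • (1 : Module.End K Wl) := by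
    have hall := CfsgLib.FourPrimes.avg_lemma (Rad.map A.toHomUnits)
      (by rintro _ ⟨u, hu, rfl⟩ _ ⟨v, -, rfl⟩; exact Units.ext (hu v).eq) γ
      (by
        rintro _ ⟨u, hu, rfl⟩
        have := hγconj 1 u
        rw [pow_one, pow_one] at this
        exact ⟨τ u, by simpa using hRadτ 1 u hu, this.symm⟩)
      (pow_pos hp.out.pos b) hTsum
      (by
        rintro i hi hib _ ⟨u, hu, rfl⟩ heq
        rw [hγconj] at heq
        have heq' : A ((τ ^ i) u) = A u := congrArg Units.val heq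
        obtain ⟨k, hk⟩ := exists_pow_eq_pow (N := b - 1) hp.out hi (by rwa [Nat.sub_add_cancel hb0])
        rw [Nat.sub_add_cancel hb0] at hk
        have hind : ∀ m : ℕ, A ((τ ^ (i * m)) u) = A u := by
          intro m
          induction m with
          | zero => simp
          | succ m ih =>
            rw [Nat.mul_succ, add_comm, pow_add, MulAut.mul_apply, hAcongr i _ _ ih, heq']
        have hzu : A (z u) = A u := by
          have h := hind k
          rwa [pow_eq_pow_mod _ hτN, hk, ← hzτ] at h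
        obtain ⟨c, hc⟩ := hlift u hzu
        rw [mul_inv_eq_iff_eq_mul]
        refine Units.ext ?_
        show T * A u = A u * T
        rw [hc, smul_mul_assoc, one_mul, mul_smul_comm, mul_one])
      (fun x hx => cast_mul_eq_zero
        (hcardK ((Subgroup.card_map_dvd _ _).trans (Subgroup.card_subgroup_dvd_card Rad))) hx)
    intro u hu
    refine hlift u ?_
    have h1 := hall _ ⟨u, hu, rfl⟩
    have h2 := hγconj 1 u
    rw [pow_one, pow_one] at h2
    have hτu : A (τ u) = A u := congrArg Units.val (h2.symm.trans h1)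
    have hind : ∀ m : ℕ, A ((τ ^ m) u) = A u := by
      intro m
      induction m with
      | zero => simp
      | succ m ih => rw [pow_succ, MulAut.mul_apply, hAcongr m _ _ hτu, ih]
    rw [hzτ]
    exact hind _
  have hcentRad : Subgroup.center R ≤ Rad := fun u hu => hscalRad u ⟨_, hcentA u hu⟩
  have hfree : ∀ i : ℕ, 0 < i → i < p ^ b → ∀ u, u⁻¹ * (τ ^ i) u ∈ Rad → u ∈ Rad := by
    intro i hi hib u hu
    obtain ⟨k, hk⟩ := exists_pow_eq_pow (N := b - 1) hp.out hi (by rwa [Nat.sub_add_cancel hb0])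
    rw [Nat.sub_add_cancel hb0] at hk
    have hind : ∀ m : ℕ, u⁻¹ * (τ ^ (i * m)) u ∈ Rad := by
      intro m
      induction m with
      | zero => simp
      | succ m ih =>
        have h1 := mul_mem hu (hRadτ i _ ih)
        rw [map_mul, map_inv, ← mul_assoc, mul_inv_cancel_right] at h1
        rwa [Nat.mul_succ, add_comm, pow_add, MulAut.mul_apply]
    have hzu : u⁻¹ * z u ∈ Rad := by
      have h := hind k
      rwa [pow_eq_pow_mod _ hτN, hk, ← hzτ] at h
    obtain ⟨c, hc, huc⟩ := hfixcoset Rad (fun x hx => by rw [hzτ]; exact hRadτ _ x hx) u hzu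
    have := mul_mem (hcentRad (hCZ huc)) (inv_mem hc)
    rwa [mul_inv_cancel_right] at this
  -- the quotient acting faithfully
  let q := QuotientGroup.mk' A.ker
  have hq : Function.Surjective q := QuotientGroup.mk'_surjective _
  let A' : R ⧸ A.ker →* Module.End K Wl := QuotientGroup.lift A.ker A le_rfl
  have hA'inj : Function.Injective A' := by
    intro x y hxy
    obtain ⟨g, rfl⟩ := hq x
    obtain ⟨g', rfl⟩ := hq y
    refine QuotientGroup.eq.2 ?_
    have h1 : A g = A g' := hxy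
    rw [MonoidHom.mem_ker, map_mul, ← h1, ← map_mul, inv_mul_cancel, map_one]
  have hcenter : (Subgroup.center (R ⧸ A.ker)).comap q = Rad := by
    ext u
    rw [Subgroup.mem_comap, Subgroup.mem_center_iff]
    constructor
    · intro h v
      have := congrArg A' (h (q v))
      rw [map_mul, map_mul] at this
      exact this.symm
    · intro h x
      obtain ⟨v, rfl⟩ := hq x
      refine hA'inj ?_
      rw [map_mul, map_mul]
      exact (h v).symm
  haveI : Fintype (R ⧸ A.ker) := Fintype.ofFinite _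
  have S : CfsgLib.Twisted.Setting A' := by
    refine ⟨?_, ?_, ?_, ?_⟩
    · intro x y
      obtain ⟨u, rfl⟩ := hq x
      obtain ⟨v, rfl⟩ := hq y
      rw [← map_commutatorElement]
      exact hcenter.ge (hcentRad (hcl u v))
    · intro x hx
      obtain ⟨u, rfl⟩ := hq x
      exact hRadscal u (hcenter.le hx)
    · intro x hx
      by_contra hcon
      push Not at hcon
      refine hx (Subgroup.mem_center_iff.2 fun y => commutatorElement_eq_one_iff_mul_comm.1 (hA'inj ?_))
      rw [hcon, map_one]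
    · rw [← Nat.card_eq_fintype_card]
      exact hcardK (Subgroup.card_quotient_dvd_card _)
  have hQr : Nat.card (commutator (R ⧸ A.ker)) = r := by
    have hprop : ∀ g ∈ commutator (R ⧸ A.ker), g ∈ Subgroup.center (R ⧸ A.ker) ∧ g ^ r = 1 := by
      intro g hg
      rw [commutator_def, Subgroup.commutator_def] at hg
      induction hg using Subgroup.closure_induction with
      | mem y hy =>
        obtain ⟨x, -, x', -, rfl⟩ := hy
        obtain ⟨u, rfl⟩ := hq x
        obtain ⟨v, rfl⟩ := hq x'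
        refine ⟨S.cls _ _, ?_⟩
        rw [← map_commutatorElement, ← map_pow, ← commutator_pow hcl,
          commutatorElement_eq_one_iff_mul_comm.2
            (Subgroup.mem_center_iff.1 (hΦZ (CfsgLib.PGroup.pow_mem_frattini hR u)) v).symm, map_one]
      | one => exact ⟨one_mem _, one_pow _⟩
      | mul y y' _ _ h1 h2 =>
        refine ⟨mul_mem h1.1 h2.1, ?_⟩
        rw [Commute.mul_pow (Subgroup.mem_center_iff.1 h1.1 y').symm, h1.2, h2.2, one_mul]
      | inv y _ h1 => exact ⟨inv_mem h1.1, by rw [inv_pow, h1.2, inv_one]⟩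
    have hsc : ∀ g : commutator (R ⧸ A.ker), ∃ c : K, A' (g : R ⧸ A.ker) = c • 1 :=
      fun g => S.scalar _ (hprop g g.2).1
    choose f0 hf0 using hsc
    obtain ⟨w, hw⟩ := exists_ne (0 : Wl)
    have hsinj : ∀ s t : K, s • (1 : Module.End K Wl) = t • 1 → s = t := fun s t h =>
      smul_left_injective K hw (LinearMap.congr_fun h w)
    let f : commutator (R ⧸ A.ker) →* K :=
      { toFun := f0
        map_one' := hsinj _ _ (by rw [← hf0, one_smul]; exact map_one A')
        map_mul' := fun g g' => hsinj _ _ (by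
          rw [← hf0, Subgroup.coe_mul, map_mul, hf0, hf0, smul_mul_smul_comm, one_mul]) }
    have hf : Function.Injective f := fun g g' h => Subtype.ext (hA'inj (by
      rw [hf0, hf0]; exact congrArg (· • (1 : Module.End K Wl)) h))
    haveI : IsCyclic (commutator (R ⧸ A.ker)) := isCyclic_of_subgroup_isDomain f hf
    have h1 : Monoid.exponent (commutator (R ⧸ A.ker)) ∣ r :=
      Monoid.exponent_dvd_of_forall_pow_eq_one fun g => Subtype.ext (hprop g g.2).2
    rw [IsCyclic.exponent_eq_card] at h1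
    refine (hr.out.eq_one_or_self_of_dvd _ h1).resolve_left fun h => ?_
    rw [Subgroup.card_eq_one] at h
    have hmem : q e ∈ commutator (R ⧸ A.ker) := by
      rw [he, map_commutatorElement]
      exact Subgroup.commutator_mem_commutator (Subgroup.mem_top _) (Subgroup.mem_top _)
    rw [h, Subgroup.mem_bot] at hmem
    have h2 : A e = 1 := by
      have := congrArg A' hmem
      rwa [map_one] at this
    exact hlame (hsinj _ _ (by rw [← hcentA e heZ, h2, one_smul]))
  have hmapker : A.ker.map (τ : R →* R) = A.ker := by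
    refine Subgroup.eq_of_le_of_card_ge ?_ (le_of_eq (Nat.card_congr
      (Subgroup.equivMapOfInjective A.ker (τ : R →* R) τ.injective).toEquiv))
    rintro _ ⟨u, hu, rfl⟩
    have := hAker 1 u hu
    rwa [pow_one] at this
  let σq : MulAut (R ⧸ A.ker) := QuotientGroup.congr _ _ τ hmapker
  have hσqpow : ∀ (i : ℕ) (u : R), (σq ^ i) (q u) = q ((τ ^ i) u) := by
    intro i
    induction i with
    | zero => intro u; rfl
    | succ i ih => intro u; rw [pow_succ, MulAut.mul_apply, pow_succ, MulAut.mul_apply]; exact ih (τ u)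
  obtain ⟨hr2, m, hm, hpm, hindex⟩ := prime_power_bound S hQr T σq hp.out hp2 hb0 hpK
    (MulEquiv.ext fun x => by obtain ⟨u, rfl⟩ := hq x; rw [hσqpow, hτN]; rfl)
    (fun i hi hib x hx => by
      obtain ⟨u, rfl⟩ := hq x
      rw [hσqpow, ← map_inv, ← map_mul] at hx
      exact hcenter.ge (hfree i hi hib u (hcenter.le hx)))
    hTN (fun x => by obtain ⟨u, rfl⟩ := hq x; exact hTconj u) hTsum
  subst hr2
  have hRadidx : Rad.index = 2 ^ (2 * m) := by
    rw [← hcenter, Subgroup.index_comap_of_surjective _ hq, Subgroup.index_eq_card, hindex]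
  -- intersect the translates of the radical
  let J : Subgroup R := ⨅ i : Fin (per - 1), Rad.comap (σ⁻¹ ^ ((i : ℕ) + 1)).toMonoidHom
  have hJidx : J.index ≤ (2 ^ (2 * m)) ^ (per - 1) := by
    have hidxθ : ∀ θ : MulAut R, (Rad.comap θ.toMonoidHom).index = Rad.index := fun θ =>
      Subgroup.index_comap_of_surjective _ θ.surjective
    refine (Subgroup.index_iInf_le _).trans (le_of_eq ?_)
    simp only [hidxθ, hRadidx, Finset.prod_const,
      Finset.card_univ, Fintype.card_fin]
  have hJmem : ∀ u ∈ J, ∀ i, 0 < i → i < per → (σ⁻¹ ^ i) u ∈ Rad := by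
    intro u hu i hi hiper
    have := (Subgroup.mem_iInf.1 hu) ⟨i - 1, by omega⟩
    rw [Subgroup.mem_comap] at this
    simpa [Nat.sub_add_cancel (show 1 ≤ i by omega)] using this
  have hprod : ∀ ζ ∈ Subgroup.center R, ∏ i ∈ Finset.range per, L i ζ = 1 := by
    have hshift : ∀ ζ ∈ Subgroup.center R,
        ∏ i ∈ Finset.range per, L i ((σ⁻¹ : MulAut R) ζ) = ∏ i ∈ Finset.range per, L i ζ := by
      intro ζ hζ
      have h1 := Finset.prod_range_succ (fun i => L i ζ) per
      have h2 := Finset.prod_range_succ' (fun i => L i ζ) per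
      have hshift' : ∀ i, L (i + 1) ζ = L i ((σ⁻¹ : MulAut R) ζ) := fun i => by
        show lam _ = lam _
        rw [pow_succ, MulAut.mul_apply]
      have h0 : L 0 ζ = lam ζ := rfl
      simp only [hshift', h0] at h1 h2
      rw [h1, show L per ζ = lam ζ from hperP ζ hζ] at h2
      have hne : lam ζ ≠ 0 := by
        intro h0
        have := hlammul ζ hζ ζ⁻¹ (inv_mem hζ)
        rw [mul_inv_cancel, hlam1, h0, zero_mul] at this
        exact one_ne_zero this
      exact (mul_right_cancel₀ hne h2).symm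
    intro ζ' hζ'
    let f : Subgroup.center R → Subgroup.center R := fun ζ =>
      ⟨((σ⁻¹ : MulAut R) (ζ : R))⁻¹ * (ζ : R), mul_mem (inv_mem (center_invariant _ ζ.2)) ζ.2⟩
    have hf : Function.Injective f := by
      intro x y hxy
      have h2 : ((σ⁻¹ : MulAut R) (x : R))⁻¹ * (x : R) = ((σ⁻¹ : MulAut R) (y : R))⁻¹ * (y : R) :=
        congrArg Subtype.val hxy
      refine Subtype.ext (mul_inv_eq_one.1 (hfpf _ ?_))
      have h3 : (σ⁻¹ : MulAut R) ((x : R) * (y : R)⁻¹) = (x : R) * (y : R)⁻¹ := by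
        rw [map_mul, map_inv, ← mul_inv_eq_iff_eq_mul.2 (eq_mul_of_inv_mul_eq h2)]
        group
      conv_lhs => rw [← h3]
      simp
    obtain ⟨⟨ζ, hζ⟩, hfζ⟩ := Finite.surjective_of_injective hf ⟨ζ', hζ'⟩
    have hfζ' : ((σ⁻¹ : MulAut R) ζ)⁻¹ * ζ = ζ' := congrArg Subtype.val hfζ
    have hmul : ∀ i, L i ((σ⁻¹ : MulAut R) ζ) * L i ζ' = L i ζ := by
      intro i
      show lam _ * lam _ = lam _
      rw [← hlammul _ (center_invariant _ (center_invariant _ hζ)) _ (center_invariant _ hζ'), ← map_mul,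
        ← hfζ', mul_inv_cancel_left]
    have h := Finset.prod_congr (rfl : Finset.range per = Finset.range per) fun i _ => hmul i
    rw [Finset.prod_mul_distrib, hshift ζ hζ] at h
    have hne : ∏ i ∈ Finset.range per, L i ζ ≠ 0 := Finset.prod_ne_zero_iff.2 fun i _ h0 => by
      have hc := center_invariant (σ⁻¹ ^ i) hζ
      have := hlammul _ hc _ (inv_mem hc)
      rw [mul_inv_cancel, hlam1, show lam ((σ⁻¹ ^ i) ζ) = 0 from h0, zero_mul] at this
      exact one_ne_zero this
    exact mul_left_cancel₀ hne (h.trans (mul_one _).symm)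
  have hAcommel : ∀ u v : R, Commute (A u) (A v) → lam ⁅u, v⁆ = 1 := by
    intro u v h
    obtain ⟨w, hw⟩ := exists_ne (0 : Wl)
    refine smul_left_injective K hw ?_
    show lam ⁅u, v⁆ • w = (1 : K) • w
    have h1 : A ⁅u, v⁆ = 1 := by
      rw [commutatorElement_def, map_mul, map_mul, map_mul, h.eq, mul_assoc _ (A u) (A u⁻¹), ← map_mul,
        mul_inv_cancel, map_one, mul_one, ← map_mul, mul_inv_cancel, map_one]
    have h2 := LinearMap.congr_fun ((hcentA _ (hcl u v)).symm.trans h1) w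
    simpa using h2
  have hJRad : J ≤ Rad := by
    intro u hu v
    have h1 := hprod ⁅u, v⁆ (hcl u v)
    rw [Finset.prod_eq_single 0 (fun i hi hi0 => by
        show lam _ = 1
        rw [map_commutatorElement]
        exact hAcommel _ _ (hJmem u hu i (Nat.pos_of_ne_zero hi0) (Finset.mem_range.1 hi) _))
      (fun h => absurd (Finset.mem_range.2 hper0) h)] at h1
    have h2 : A ⁅u, v⁆ = 1 := by
      rw [hcentA _ (hcl u v), show lam ⁅u, v⁆ = 1 from h1, one_smul]
    have h3 : A' (q ⁅u, v⁆) = A' 1 := by rw [map_one]; exact h2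
    have h4 := hA'inj h3
    rw [map_commutatorElement, commutatorElement_eq_one_iff_mul_comm] at h4
    have h5 := congrArg A' h4
    rw [map_mul, map_mul] at h5
    exact h5
  have hJinv : ∀ u ∈ J, σ u ∈ J := by
    intro u hu
    refine Subgroup.mem_iInf.2 fun i => ?_
    rw [Subgroup.mem_comap]
    show (σ⁻¹ ^ ((i : ℕ) + 1)) (σ u) ∈ Rad
    rw [pow_succ, MulAut.mul_apply, show (σ⁻¹ : MulAut R) (σ u) = u by simp]
    rcases Nat.eq_zero_or_pos (i : ℕ) with h | h
    · rw [h, pow_zero]; exact hJRad hu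
    · exact hJmem u hu i h (by have := i.2; omega)
  have hRadtop : Rad ≠ ⊤ := by
    intro h
    exact hlame (hAcommel a₀ b₀ ((h ▸ Subgroup.mem_top a₀ : a₀ ∈ Rad) b₀))
  have hJC : J ≤ C := fun u hu => hmin J (fun h => hRadtop (top_le_iff.1 (h.ge.trans hJRad))) hJinv u hu
  have hmapC : C.map (σ : R →* R) = C := by
    refine Subgroup.eq_of_le_of_card_ge ?_ (le_of_eq (Nat.card_congr
      (Subgroup.equivMapOfInjective C (σ : R →* R) σ.injective).toEquiv))
    rintro _ ⟨u, hu, rfl⟩
    show z (σ u) = σ u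
    rw [← hzσ, (hC u).1 hu]
  haveI := hCn
  let σC : MulAut (R ⧸ C) := QuotientGroup.congr C C σ hmapC
  have hσCpow : ∀ (i : ℕ) (u : R), (σC ^ i) (u : R ⧸ C) = (((σ ^ i) u : R) : R ⧸ C) := by
    intro i
    induction i with
    | zero => intro u; rfl
    | succ i ih => intro u; rw [pow_succ, MulAut.mul_apply, pow_succ, MulAut.mul_apply]; exact ih (σ u)
  have hdvd : p ^ (n + 1) ∣ Nat.card (R ⧸ C) - 1 := by
    refine dvd_card_sub_one σC (MulEquiv.ext fun x => ?_) fun x hx => ?_
    · obtain ⟨u, rfl⟩ := QuotientGroup.mk_surjective x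
      rw [hσCpow, hσ]; rfl
    · obtain ⟨u, rfl⟩ := QuotientGroup.mk_surjective x
      rw [hσCpow] at hx
      obtain ⟨c, hc, huc⟩ := hfixcoset C (fun y hy => by rw [(hC y).1 hy]; exact hy) u
        (QuotientGroup.eq.1 hx.symm)
      refine (QuotientGroup.eq_one_iff u).2 ?_
      simpa using mul_mem huc (inv_mem hc)
  rw [← Subgroup.index_eq_card] at hdvd
  obtain ⟨d, hd⟩ := IsPGroup.index hR C
  have hd0 : 0 < d := by
    refine Nat.pos_of_ne_zero fun h => hCtop (Subgroup.index_eq_one.1 ?_)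
    rw [hd, h, pow_zero]
  have hle : 2 ^ d ≤ (2 ^ (2 * m)) ^ (per - 1) := by
    rw [← hd]
    refine le_trans (Nat.le_of_dvd ?_ (Subgroup.index_dvd_of_le hJC)) hJidx
    exact Nat.pos_of_ne_zero J.index_ne_zero_of_finite
  rw [← pow_mul, Nat.pow_le_pow_iff_right (by norm_num)] at hle
  rw [hd, show n + 1 = a + b by omega] at hdvd
  have h1 := exponent_bound hp.out hp2 hm hb0 hpm hd0 hdvd
  rw [← hpa] at h1
  obtain ⟨per', hper'⟩ : ∃ k, per = k + 1 := ⟨per - 1, by omega⟩
  rw [hper', Nat.add_sub_cancel] at hle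
  rw [hper', mul_add, mul_one] at h1
  omega

/-- The power of order `p` of a fixed point free automorphism centralizes the image. -/
theorem key {p r n : ℕ} [hp : Fact p.Prime] [hr : Fact r.Prime] (hp2 : p ≠ 2) (hpr : p ≠ r)
    [IsAlgClosed K] (hrK : (r : K) ≠ 0) (hpK : (p : K) ≠ 0) :
    ∀ (d : ℕ) (R : Type u) [Group R] [Finite R], Nat.card R ≤ d → IsPGroup r R →
      ∀ σ : MulAut R, σ ^ p ^ (n + 1) = 1 → (∀ u, σ u = u → u = 1) →
      ∀ {W : Type v} [AddCommGroup W] [Module K W] [FiniteDimensional K W]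
        (ρ : R →* Module.End K W) (X : Module.End K W), (∀ u, X * ρ u = ρ (σ u) * X) →
      X ^ p ^ (n + 1) = 1 → ∑ i ∈ Finset.range (p ^ (n + 1)), X ^ i = 0 →
      ∀ u, ρ ((σ ^ p ^ n) u) = ρ u := by
  intro d
  induction d with
  | zero =>
    intro R _ _ hd
    exact absurd hd (not_le.2 Nat.card_pos)
  | succ d ih =>
    intro R _ _ hd hR σ hσ hfpf W _ _ _ ρ X hconj hX hsum u
    have hkerinv : ∀ x ∈ ρ.ker, σ x ∈ ρ.ker := by
      intro x hx
      rw [MonoidHom.mem_ker] at hx ⊢
      have h1 := hconj x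
      rw [hx, mul_one] at h1
      have hunit : X * X ^ (p ^ (n + 1) - 1) = 1 := by
        rw [← pow_succ', Nat.sub_add_cancel (pow_pos hp.out.pos _), hX]
      have h2 := congrArg (· * X ^ (p ^ (n + 1) - 1)) h1
      simpa [mul_assoc, hunit] using h2.symm
    by_cases hker : ρ.ker = ⊥
    · have hinj : Function.Injective ρ := by
        intro x y h
        refine inv_mul_eq_one.1 (Subgroup.mem_bot.1 (hker ▸ ?_ : x⁻¹ * y ∈ (⊥ : Subgroup R)))
        rw [MonoidHom.mem_ker, map_mul, ← h, ← map_mul, inv_mul_cancel, map_one]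
      refine congrArg ρ (reduced hp2 hpr hrK hpK hR σ hσ hfpf ρ hinj X hconj hX hsum ?_ u)
      intro U hU hUinv v hv
      obtain ⟨ψ, hψ⟩ := CfsgLib.Solvable.exists_restrict σ U hUinv
      have hcard : Nat.card U < Nat.card R := by
        refine lt_of_le_of_ne (Subgroup.card_le_card_group U) fun h => hU (Subgroup.eq_top_of_card_eq U h)
      have h := ih U (by omega) (hR.to_subgroup U) ψ
        (MulEquiv.ext fun x => Subtype.ext (by rw [CfsgLib.Solvable.restrict_pow hψ, hσ]; rfl))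
        (fun x hx => Subtype.ext (hfpf x (by rw [← hψ x, hx])))
        (ρ.comp U.subtype) X (fun x => by rw [MonoidHom.comp_apply, MonoidHom.comp_apply]; exact (hconj x).trans (by rw [← hψ x]; rfl)) hX hsum ⟨v, hv⟩
      rw [MonoidHom.comp_apply, MonoidHom.comp_apply, Subgroup.subtype_apply, Subgroup.subtype_apply,
        CfsgLib.Solvable.restrict_pow hψ] at h
      exact hinj h
    · have hmap : ρ.ker.map (σ : R →* R) = ρ.ker := by
        refine Subgroup.eq_of_le_of_card_ge ?_ (le_of_eq (Nat.card_congr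
          (Subgroup.equivMapOfInjective ρ.ker (σ : R →* R) σ.injective).toEquiv))
        rintro _ ⟨x, hx, rfl⟩
        exact hkerinv x hx
      let σ' : MulAut (R ⧸ ρ.ker) := QuotientGroup.congr _ _ σ hmap
      have hσ'pow : ∀ (i : ℕ) (x : R), (σ' ^ i) (x : R ⧸ ρ.ker) = (((σ ^ i) x : R) : R ⧸ ρ.ker) := by
        intro i
        induction i with
        | zero => intro x; rfl
        | succ i ih' => intro x; rw [pow_succ, MulAut.mul_apply, pow_succ, MulAut.mul_apply]; exact ih' (σ x)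
      have hcard : Nat.card (R ⧸ ρ.ker) < Nat.card R := by
        rw [Subgroup.card_eq_card_quotient_mul_card_subgroup ρ.ker]
        exact lt_mul_of_one_lt_right Nat.card_pos (Subgroup.one_lt_card_iff_ne_bot _ |>.2 hker)
      have h := ih (R ⧸ ρ.ker) (by omega) (hR.to_quotient _) σ'
        (MulEquiv.ext fun x => by
          obtain ⟨y, rfl⟩ := QuotientGroup.mk_surjective x
          rw [hσ'pow, hσ]; rfl)
        (fun x hx => by
          obtain ⟨y, rfl⟩ := QuotientGroup.mk_surjective x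
          have hncop : ¬ p ∣ Nat.card ρ.ker := by
            obtain ⟨k, hk⟩ := (hR.to_subgroup ρ.ker).exists_card_eq
            exact fun hd => hpr ((Nat.prime_dvd_prime_iff_eq hp.out hr.out).1 (hp.out.dvd_of_dvd_pow (hk ▸ hd)))
          obtain ⟨c, hc, hyc⟩ := exists_fixed_mem_coset (p := p) (k := n + 1) σ hσ ρ.ker hkerinv hncop
            (QuotientGroup.eq.1 hx.symm)
          refine (QuotientGroup.eq_one_iff y).2 ?_
          have h1 := hfpf _ hyc
          rw [mul_eq_one_iff_eq_inv] at h1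
          rw [h1]; exact inv_mem hc)
        (QuotientGroup.lift ρ.ker ρ le_rfl) X
        (fun x => by obtain ⟨y, rfl⟩ := QuotientGroup.mk_surjective x; exact hconj y) hX hsum (u : R ⧸ ρ.ker)
      rw [hσ'pow] at h
      exact h

end CfsgLib.ShultGross
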