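import Mathlib

/-!
Automorphisms of an elementary abelian group as operators over an algebraically closed field.
-/

set_option autoImplicit false

namespace CfsgLib.ShultGross

theorem exists_rep {t : ℕ} [Fact t.Prime] {A : Type*} [CommGroup A] [Finite A]
    (hexp : ∀ a : A, a ^ t = 1) :
    ∃ (m : ℕ) (M : MulAut A →* Module.End (AlgebraicClosure (ZMod t)) (Fin m → AlgebraicClosure (ZMod t))),
      Function.Injective M ∧ ∀ (α : MulAut A) (N : ℕ), α ^ N = 1 → (∀ a, α a = a → a = 1) →
        ∑ i ∈ Finset.range N, M α ^ i = 0 := by
  classical
  letI : Module (ZMod t) (Additive A) := AddCommGroup.zmodModule (n := t)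
    (fun v => Additive.toMul.injective (hexp v.toMul))
  haveI : FiniteDimensional (ZMod t) (Additive A) := Module.Finite.of_finite
  let act : MulAut A →* Module.End (ZMod t) (Additive A) :=
    { toFun := fun g => (MonoidHom.toAdditive g.toMonoidHom).toZModLinearMap t
      map_one' := by ext w; simp
      map_mul' := fun a b => by ext w; simp }
  let b := Module.finBasis (ZMod t) (Additive A)
  let K := AlgebraicClosure (ZMod t)
  let n := Module.finrank (ZMod t) (Additive A)
  let F : Module.End (ZMod t) (Additive A) →+* Module.End K (Fin n → K) :=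
    (Matrix.toLinAlgEquiv' (R := K)).toRingEquiv.toRingHom.comp
      ((algebraMap (ZMod t) K).mapMatrix.comp (LinearMap.toMatrixAlgEquiv b).toRingEquiv.toRingHom)
  have hF : Function.Injective F := by
    refine (Matrix.toLinAlgEquiv' (R := K)).injective.comp ?_
    intro f g hfg
    refine (LinearMap.toMatrixAlgEquiv b).injective ?_
    exact Matrix.map_injective (algebraMap (ZMod t) K).injective hfg
  refine ⟨n, F.toMonoidHom.comp act, ?_, fun α N hN hfix => ?_⟩
  · refine hF.comp fun f g hfg => MulEquiv.ext fun a => ?_
    exact congrArg Additive.toMul (LinearMap.congr_fun hfg (Additive.ofMul a))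
  · have hactsum : ∑ i ∈ Finset.range N, act α ^ i = 0 := by
      have h1 : act α * ∑ i ∈ Finset.range N, act α ^ i = ∑ i ∈ Finset.range N, act α ^ i := by
        have h2 := mul_geom_sum (act α) N
        rw [← map_pow, hN, map_one, sub_self, sub_mul, one_mul, sub_eq_zero] at h2
        exact h2
      refine LinearMap.ext fun v => ?_
      have h3 := LinearMap.congr_fun h1 v
      rw [Module.End.mul_apply] at h3
      exact Additive.toMul.injective (hfix _ (congrArg Additive.toMul h3))
    have := congrArg F hactsum
    rw [map_sum, map_zero] at this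
    simpa [map_pow] using this

end CfsgLib.ShultGross
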