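import Cfsg.Agent.Lib.Frobenius.ClassTwoBound
import Mathlib

/-!
Automorphisms of prime power order: fixed points in cosets, free orbits, the exceptional bound.
-/

set_option autoImplicit false
open scoped commutatorElement

namespace CfsgLib.ShultGross

theorem exists_pow_eq_pow {p N : ℕ} (hp : p.Prime) {i : ℕ} (hi : 0 < i) (hiN : i < p ^ (N + 1)) :
    ∃ k : ℕ, i * k % p ^ (N + 1) = p ^ N := by
  obtain ⟨e, he, heq⟩ := (Nat.dvd_prime_pow hp).1 (Nat.gcd_dvd_right i (p ^ (N + 1)))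
  have heN : e ≤ N := by
    by_contra h
    have h1 : p ^ (N + 1) ∣ i := by
      rw [← show e = N + 1 by omega, ← heq]
      exact Nat.gcd_dvd_left _ _
    exact absurd (Nat.le_of_dvd hi h1) (not_le.mpr hiN)
  obtain ⟨m, -, hm⟩ := Nat.exists_mul_mod_eq_gcd (k := p ^ (N + 1)) (n := i)
    (by rw [heq]; exact Nat.pow_lt_pow_right hp.one_lt (by omega))
  refine ⟨m * p ^ (N - e), ?_⟩
  rw [← mul_assoc, Nat.mul_mod, hm, heq, ← Nat.mul_mod_mod, Nat.mod_mod, Nat.mul_mod_mod, ← pow_add,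
    Nat.add_sub_cancel' heN]
  exact Nat.mod_eq_of_lt (Nat.pow_lt_pow_right hp.one_lt (by omega))

variable {R : Type*} [Group R]

/-- A coset fixed by an automorphism of `p`-power order contains a fixed point if the subgroup has
order prime to `p`. -/
theorem exists_fixed_mem_coset [Finite R] {p k : ℕ} [hp : Fact p.Prime] (τ : MulAut R)
    (hτ : τ ^ p ^ k = 1) (N : Subgroup R) (hN : ∀ x ∈ N, τ x ∈ N) (hcop : ¬ p ∣ Nat.card N) {u : R}
    (hu : u⁻¹ * τ u ∈ N) : ∃ c ∈ N, τ (u * c) = u * c := by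
  classical
  haveI : Fintype N := Fintype.ofFinite N
  let f : N → N := fun c => ⟨u⁻¹ * τ (u * c), by
    rw [map_mul, ← mul_assoc]
    exact mul_mem hu (hN c c.2)⟩
  have hf : Function.Injective f := fun a b e =>
    Subtype.ext (mul_left_cancel (τ.injective (mul_left_cancel (congrArg Subtype.val e))))
  let π : Equiv.Perm N := Equiv.ofBijective f (Finite.injective_iff_bijective.mp hf)
  have hπ : ∀ (j : ℕ) (c : N), (((π ^ j) c : N) : R) = u⁻¹ * (τ ^ j) (u * c) := by
    intro j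
    induction j with
    | zero => intro c; simp
    | succ j ih =>
      intro c
      rw [pow_succ', Equiv.Perm.mul_apply]
      show u⁻¹ * τ (u * (((π ^ j) c : N) : R)) = _
      rw [ih, mul_inv_cancel_left, pow_succ', MulAut.mul_apply]
  obtain ⟨c, hc⟩ := Equiv.Perm.exists_fixed_point_of_prime (p := p) (n := k)
    (by rwa [← Nat.card_eq_fintype_card]) (σ := π)
    (Equiv.ext fun c => Subtype.ext (by rw [hπ, hτ]; simp))
  exact ⟨c, c.2, inv_mul_eq_iff_eq_mul.mp (congrArg Subtype.val hc)⟩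

/-- Free orbits outside the identity. -/
theorem dvd_card_sub_one [Finite R] {p N : ℕ} [hp : Fact p.Prime] (τ : MulAut R)
    (hτ : τ ^ p ^ (N + 1) = 1) (hfree : ∀ v : R, (τ ^ p ^ N) v = v → v = 1) :
    p ^ (N + 1) ∣ Nat.card R - 1 := by
  classical
  haveI : Fintype R := Fintype.ofFinite R
  let Y := {v : R // v ≠ 1}
  rcases isEmpty_or_nonempty Y with hY | ⟨⟨v₀⟩⟩
  · haveI : Subsingleton R := ⟨fun a b => by
      have h : ∀ v : R, v = 1 := fun v => by
        by_contra h; exact hY.false ⟨v, h⟩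
      rw [h a, h b]⟩
    rw [Nat.card_of_subsingleton (1 : R)]
    simp
  letI : MulAction (Subgroup.zpowers τ) Y :=
    { smul := fun g v => ⟨(g : MulAut R) v.1, fun he => v.2 ((g : MulAut R).injective (he.trans (map_one _).symm))⟩
      one_smul := fun v => Subtype.ext rfl
      mul_smul := fun g g' v => Subtype.ext rfl }
  have hord : orderOf τ = p ^ (N + 1) := orderOf_eq_prime_pow (fun h => v₀.2 (hfree v₀.1 (by rw [h]; rfl))) hτ
  have hstab : ∀ v : Y, MulAction.stabilizer (Subgroup.zpowers τ) v = ⊥ := by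
    intro v
    rw [Subgroup.eq_bot_iff_forall]
    intro g hg
    obtain ⟨i, hi⟩ := (mem_powers_iff_mem_zpowers (x := τ)).2 g.2
    by_contra hg1
    have hne : i % p ^ (N + 1) ≠ 0 := by
      intro h0
      refine hg1 (Subtype.ext ?_)
      rw [← hi]
      show τ ^ i = 1
      rw [← pow_mod_orderOf, hord, h0, pow_zero]
    obtain ⟨k, hk⟩ := exists_pow_eq_pow hp.out (Nat.pos_of_ne_zero hne)
      (Nat.mod_lt _ (pow_pos hp.out.pos _))
    have hfix : (τ ^ i) v.1 = v.1 := by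
      have h1 : (g : MulAut R) v.1 = v.1 := congrArg Subtype.val hg
      rwa [← hi] at h1
    have hfix' : ∀ m : ℕ, ((τ ^ i) ^ m) v.1 = v.1 := by
      intro m
      induction m with
      | zero => rfl
      | succ m ih => rw [pow_succ, MulAut.mul_apply, hfix, ih]
    refine v.2 (hfree v.1 ?_)
    have hk' : τ ^ (i * k) = τ ^ p ^ N := by
      rw [← pow_mod_orderOf τ (i * k), hord, ← hk, Nat.mul_mod i k, ← Nat.mul_mod, Nat.mul_mod (i % _) k,
        Nat.mod_mod, ← Nat.mul_mod]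
    rw [← hk', pow_mul]
    exact hfix' k
  have hcard := Nat.card_congr (MulAction.selfEquivOrbitsQuotientProd hstab)
  rw [Nat.card_prod, Nat.card_zpowers, hord, Nat.card_eq_fintype_card, Fintype.card_subtype_compl,
    Fintype.card_subtype_eq] at hcard
  rw [Nat.card_eq_fintype_card, hcard]
  exact dvd_mul_left _ _

variable {K : Type*} [Field K] {W : Type*} [AddCommGroup W] [Module K W]
variable {Q : Type*} [Group Q]

open CfsgLib.Twisted in
/-- An operator of odd prime power order without eigenvalue one forces `q = 2`. -/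
theorem prime_power_bound [IsAlgClosed K] [FiniteDimensional K W] [Nontrivial W] [Fintype Q]
    {a : Q →* Module.End K W} (S : Setting a) {q : ℕ} [hq : Fact q.Prime]
    (hQ : Nat.card (commutator Q) = q) (T : Module.End K W) (σ : MulAut Q) {p b : ℕ} (hp : p.Prime)
    (hp2 : p ≠ 2) (hb : 0 < b) (hpK : (p : K) ≠ 0) (hσ : σ ^ p ^ b = 1)
    (hfree : ∀ i : ℕ, 0 < i → i < p ^ b → ∀ u : Q, u⁻¹ * (σ ^ i) u ∈ Subgroup.center Q →
      u ∈ Subgroup.center Q)
    (hT : T ^ p ^ b = 1) (hconj : ∀ u, T * a u = a (σ u) * T)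
    (hsum : ∑ i ∈ Finset.range (p ^ b), T ^ i = 0) :
    q = 2 ∧ ∃ m : ℕ, 0 < m ∧ p ^ b = 2 ^ m + 1 ∧ Nat.card (Q ⧸ Subgroup.center Q) = 2 ^ (2 * m) := by
  classical
  obtain ⟨n, hn, hN⟩ := exists_index_center S.cls hQ
  set P := p ^ b with hP
  have hP0 : 0 < P := pow_pos hp.pos b
  have hPK : (P : K) ≠ 0 := by rw [hP, Nat.cast_pow]; exact pow_ne_zero _ hpK
  haveI : NeZero (P : K) := ⟨hPK⟩
  obtain ⟨ω, hω⟩ := HasEnoughRootsOfUnity.exists_primitiveRoot K P
  obtain ⟨m, hm1, hm2, hm3⟩ := exists_eigen_split T hP0 hT hPK hω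
  obtain ⟨O, hO, hC⟩ := finrank_centEnd_le S T σ hP0 hσ hfree hT hconj
  have hE := finrank_end_eq S
  set β := Module.finrank K (commEnd a)
  set N := Nat.card (Q ⧸ Subgroup.center Q)
  set d := Module.finrank K W
  have hd : 0 < d := Module.finrank_pos
  have hβ : 0 < β := by
    rcases Nat.eq_zero_or_pos β with h | h
    · rw [h, mul_zero] at hE
      have := Nat.mul_pos hd hd
      omega
    · exact h
  have hm0 := hm3 hsum
  have hcs : d * d ≤ (P - 1) * ∑ j, m j * m j := by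
    set z : Fin P := ⟨0, hP0⟩
    have h1 : ∑ j ∈ Finset.univ.erase z, m j = d := by rw [Finset.sum_erase _ hm0, hm1]
    have h2 : ∑ j ∈ Finset.univ.erase z, m j * m j = ∑ j, m j * m j :=
      Finset.sum_erase _ (by simp [z, hm0])
    have h3 := sq_sum_le_card_mul_sum_sq (s := Finset.univ.erase z) (f := m)
    rw [Finset.card_erase_of_mem (Finset.mem_univ z), Finset.card_univ, Fintype.card_fin, h1] at h3
    simp only [pow_two, Nat.cast_id] at h3
    rwa [h2] at h3
  have h4 : N * β ≤ (P - 1) * (1 + O) * β := by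
    rw [← hE, mul_assoc]
    exact hcs.trans (Nat.mul_le_mul_left _ (hm2.trans hC))
  have h5 : N ≤ (P - 1) * (1 + O) := Nat.le_of_mul_le_mul_right h4 hβ
  obtain ⟨r', hr'⟩ : ∃ r', P = r' + 1 := ⟨P - 1, (Nat.succ_pred_eq_of_pos hP0).symm⟩
  rw [hr', Nat.add_sub_cancel] at h5
  rw [hr'] at hO
  have h6 : N ≤ r' * r' := by
    have : O + 1 ≤ r' := by nlinarith
    nlinarith
  set M := q ^ n with hM
  have hNM : N = M * M := by rw [hN, hM, ← pow_add]; ring_nf
  have hM2 : 2 ≤ M := le_trans hq.out.two_le (Nat.le_self_pow hn.ne' q)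
  have hMr : M ≤ r' := by nlinarith
  have hdvd : P ∣ (M + 1) * (M - 1) := by
    have : (M + 1) * (M - 1) = O * (r' + 1) := by
      have h7 : (M + 1) * (M - 1) + 1 = M * M := by
        obtain ⟨M', hM'⟩ : ∃ M', M = M' + 1 := ⟨M - 1, by omega⟩
        rw [hM']; simp only [Nat.add_sub_cancel]; ring
      omega
    exact ⟨O, by rw [this, hr']; ring⟩
  have hr1 : r' = M := by
    have hp3 : 3 ≤ p := by have := hp.two_le; omega
    by_cases h1 : p ∣ M + 1
    · have h2 : ¬ p ∣ M - 1 := fun h => by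
        have := Nat.dvd_sub h1 h
        have := Nat.le_of_dvd (by omega) this
        omega
      have := Nat.le_of_dvd (by omega)
        ((Nat.Coprime.pow_left b (hp.coprime_iff_not_dvd.2 h2)).dvd_of_dvd_mul_right hdvd)
      omega
    · have := Nat.le_of_dvd (by omega)
        ((Nat.Coprime.pow_left b (hp.coprime_iff_not_dvd.2 h1)).dvd_of_dvd_mul_left hdvd)
      omega
  have hq2 : q = 2 := by
    rcases hq.out.eq_two_or_odd' with h | h
    · exact h
    · exfalso
      have hev : Even P := by rw [hr', hr1, hM]; exact h.pow.add_one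
      exact hp2 ((Nat.prime_dvd_prime_iff_eq Nat.prime_two hp).1
        (Nat.prime_two.dvd_of_dvd_pow (hP ▸ even_iff_two_dvd.1 hev))).symm
  subst hq2
  exact ⟨rfl, n, hn, by rw [hr', hr1, hM], hN⟩

/-- The arithmetic of the exceptional case. -/
theorem exponent_bound {p b a m d : ℕ} (hp : p.Prime) (hp2 : p ≠ 2) (hm : 0 < m) (hb : 0 < b)
    (hpm : p ^ b = 2 ^ m + 1) (hd : 0 < d) (hdvd : p ^ (a + b) ∣ 2 ^ d - 1) : 2 * m * p ^ a ≤ d := by
  have hpb : p ^ b ∣ 2 ^ d - 1 := (pow_dvd_pow p (by omega)).trans hdvd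
  have h2m : (2 ^ m + 1) * (2 ^ m - 1) = 2 ^ (2 * m) - 1 := by
    rw [pow_mul', sq]
    have := Nat.one_le_two_pow (n := m)
    obtain ⟨M', hM'⟩ : ∃ M', 2 ^ m = M' + 1 := ⟨2 ^ m - 1, by omega⟩
    rw [hM']; simp only [Nat.add_sub_cancel]
    symm; apply Nat.sub_eq_of_eq_add; ring
  have hk : 2 * m ∣ d := by
    have hmod : 2 ^ (2 * m) ≡ 1 [MOD p ^ b] :=
      ((Nat.modEq_iff_dvd' Nat.one_le_two_pow).2 ⟨2 ^ m - 1, by rw [← h2m, hpm]⟩).symm
    have hρ : 2 ^ (d % (2 * m)) ≡ 1 [MOD p ^ b] := by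
      have h1 : 2 ^ d ≡ 1 [MOD p ^ b] := ((Nat.modEq_iff_dvd' Nat.one_le_two_pow).2 hpb).symm
      rw [← Nat.mod_add_div d (2 * m), pow_add, pow_mul] at h1
      have h2 := (hmod.pow (d / (2 * m))).mul_left (2 ^ (d % (2 * m)))
      rw [one_pow, mul_one] at h2
      exact h2.symm.trans h1
    refine Nat.dvd_of_mod_eq_zero ?_
    set ρ := d % (2 * m) with hρdef
    have hlt : ρ < 2 * m := Nat.mod_lt _ (by omega)
    by_contra h0
    have hd1 : 2 ^ m + 1 ∣ 2 ^ ρ - 1 := by
      rw [← hpm]; exact (Nat.modEq_iff_dvd' Nat.one_le_two_pow).1 hρ.symm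
    have hpos : 2 ≤ 2 ^ ρ := Nat.le_self_pow h0 2
    by_cases hle : ρ ≤ m
    · have := Nat.le_of_dvd (by omega) hd1
      have := Nat.pow_le_pow_right (n := 2) (by norm_num) hle
      omega
    · have hsplit : 2 ^ ρ = 2 ^ (ρ - m) * 2 ^ m := by rw [← pow_add]; congr 1; omega
      have h3 : 2 ^ m + 1 ∣ 2 ^ (ρ - m) + 1 := by
        have h4 : 2 ^ m + 1 ∣ 2 ^ (ρ - m) * (2 ^ m + 1) := dvd_mul_left _ _
        rw [mul_add, mul_one, ← hsplit] at h4
        have := Nat.dvd_sub h4 hd1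
        rwa [show ∀ A B : ℕ, 2 ≤ A → A + B - (A - 1) = B + 1 from fun A B _ => by omega] at this
        exact hpos
      have := Nat.le_of_dvd (Nat.succ_pos _) h3
      have := Nat.pow_lt_pow_right (a := 2) (by norm_num) (show ρ - m < m by omega)
      omega
  obtain ⟨k, rfl⟩ := hk
  have hk0 : k ≠ 0 := by rintro rfl; simp at hd
  suffices h : p ^ a ∣ k from Nat.mul_le_mul_left _ (Nat.le_of_dvd (Nat.pos_of_ne_zero hk0) h)
  haveI : Fact p.Prime := ⟨hp⟩
  have hpdiv : p ∣ p ^ b := dvd_pow_self p hb.ne'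
  have hx : ¬ p ∣ 2 ^ (2 * m) := fun h =>
    hp2 ((Nat.prime_dvd_prime_iff_eq hp Nat.prime_two).1 (hp.dvd_of_dvd_pow h))
  have hxy : p ∣ 2 ^ (2 * m) - 1 := by rw [← h2m, ← hpm]; exact hpdiv.trans (dvd_mul_right _ _)
  have hkey := Nat.emultiplicity_pow_sub_pow hp (hp.odd_of_ne_two hp2) hxy hx k
  rw [one_pow, ← pow_mul] at hkey
  have hb' : emultiplicity p (2 ^ (2 * m) - 1) = b := by
    refine emultiplicity_eq_of_dvd_of_not_dvd ⟨2 ^ m - 1, by rw [← h2m, hpm]⟩ fun h => ?_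
    rw [← h2m, ← hpm, pow_succ] at h
    have h1 := (Nat.mul_dvd_mul_iff_left (pow_pos hp.pos b)).1 h
    have h2 : p ∣ 2 ^ m + 1 := hpm ▸ hpdiv
    have h3 := Nat.dvd_sub h2 h1
    have := Nat.one_le_two_pow (n := m)
    rw [show 2 ^ m + 1 - (2 ^ m - 1) = 2 by omega] at h3
    exact hp2 ((Nat.prime_dvd_prime_iff_eq hp Nat.prime_two).1 h3)
  have hle := le_emultiplicity_of_pow_dvd hdvd
  rw [hkey, hb', Nat.cast_add, add_comm (a : ℕ∞)] at hle
  exact pow_dvd_of_le_emultiplicity ((ENat.add_le_add_iff_left (ENat.coe_ne_top b)).1 hle)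

end CfsgLib.ShultGross
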