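import Mathlib

/-!
A plane over the field of `2 ^ b - 1` elements has no nonscalar operator of odd prime order whose
conjugate by an operator with `τ ^ 2 ^ (b - 1) = -1` commutes with it.
-/

set_option autoImplicit false

namespace CfsgLib.ShultGross

variable {t : ℕ} [ht : Fact t.Prime] {V : Type*} [AddCommGroup V] [Module (ZMod t) V] [Finite V]

theorem dvd_pred_of_plane {r b : ℕ} [hr : Fact r.Prime] (hr2 : r ≠ 2) (hrt : r ≠ t)
    (htb : t + 1 = 2 ^ b) (hV : Nat.card V = t ^ 2) (E : Module.End (ZMod t) V) (hE : E ^ r = 1)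
    (hE1 : E ≠ 1) : r ∣ t - 1 := by
  classical
  haveI : Fintype V := Fintype.ofFinite V
  let e : Function.End V := ⇑E
  have hpow : ∀ j : ℕ, e ^ j = ⇑(E ^ j) := by
    intro j
    induction j with
    | zero => rfl
    | succ j ih => rw [pow_succ', pow_succ', ih]; rfl
  have h1 := Equiv.Perm.card_fixedPoints_modEq (f := e) (p := r) (n := 1)
    (by rw [pow_one, hpow, hE]; rfl)
  set L := LinearMap.ker (E - 1) with hL
  have hfix : Fintype.card (Function.fixedPoints e) = Nat.card L := by
    rw [Nat.card_eq_fintype_card]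
    refine Fintype.card_congr (Equiv.subtypeEquivRight fun v => ?_)
    show E v = v ↔ v ∈ LinearMap.ker (E - 1)
    rw [LinearMap.mem_ker, LinearMap.sub_apply, Module.End.one_apply, sub_eq_zero]
  rw [hfix, ← Nat.card_eq_fintype_card, hV] at h1
  obtain ⟨i, hi, hLi⟩ := (Nat.dvd_prime_pow ht.out).1
    (hV ▸ AddSubgroup.card_addSubgroup_dvd_card L.toAddSubgroup)
  have hLi' : Nat.card L = t ^ i := hLi
  rw [hLi'] at h1
  have hnd : ∀ j : ℕ, ¬ r ∣ 2 ^ j := fun j h =>
    hr2 ((Nat.prime_dvd_prime_iff_eq hr.out Nat.prime_two).1 (hr.out.dvd_of_dvd_pow h))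
  obtain ⟨w, hw⟩ : ∃ w, t = w + 1 := ⟨t - 1, by have := ht.out.two_le; omega⟩
  interval_cases i
  · have h2 := (Nat.modEq_iff_dvd' (Nat.one_le_pow _ _ ht.out.pos)).1 h1.symm
    have h3 : t ^ 2 - t ^ 0 = (t - 1) * (t + 1) := by
      rw [hw]; simp only [pow_zero, Nat.add_sub_cancel]
      apply Nat.sub_eq_of_eq_add; ring
    rw [pow_zero] at h3; rw [h3, htb] at h2
    exact (hr.out.dvd_mul.1 h2).resolve_right (hnd b)
  · have h2 := (Nat.modEq_iff_dvd' (Nat.pow_le_pow_right ht.out.pos (by norm_num))).1 h1.symm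
    have h3 : t ^ 2 - t ^ 1 = t * (t - 1) := by rw [Nat.mul_sub, pow_one, sq, mul_one]
    rw [pow_one] at h3; simp only [pow_one] at h2; rw [h3] at h2
    exact (hr.out.dvd_mul.1 h2).resolve_left fun h => hrt ((Nat.prime_dvd_prime_iff_eq hr.out ht.out).1 h)
  · refine absurd ?_ hE1
    refine LinearMap.ext fun v => ?_
    have h3 : L.toAddSubgroup = ⊤ := AddSubgroup.eq_top_of_card_eq _ (hLi.trans hV.symm)
    have h4 : v ∈ L := show v ∈ L.toAddSubgroup by rw [h3]; trivial
    rwa [hL, LinearMap.mem_ker, LinearMap.sub_apply, sub_eq_zero] at h4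

theorem exists_comb (hV : Nat.card V = t ^ 2) {y y' : V} (hy : y ≠ 0)
    (h : ∀ a : ZMod t, a • y ≠ y') (w : V) : ∃ a c : ZMod t, a • y + c • y' = w := by
  have hfr : Fintype.card (Fin 2) = Module.finrank (ZMod t) V := by
    have h2 := Module.natCard_eq_pow_finrank (K := ZMod t) (V := V)
    rw [hV, Nat.card_zmod] at h2
    rw [Fintype.card_fin]
    exact Nat.pow_right_injective ht.out.two_le h2
  have hspan := ((LinearIndependent.pair_iff' hy).2 h).span_eq_top_of_card_eq_finrank hfr
  have hw : w ∈ Submodule.span (ZMod t) (Set.range ![y, y']) := hspan ▸ Submodule.mem_top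
  obtain ⟨g, hg⟩ := (Submodule.mem_span_range_iff_exists_fun _).1 hw
  exact ⟨g 0, g 1, by simpa [Fin.sum_univ_two] using hg⟩

/-- The plane lemma. -/
theorem plane_false {r b : ℕ} [hr : Fact r.Prime] (hr2 : r ≠ 2) (hrt : r ≠ t)
    (htb : t + 1 = 2 ^ b) (hb : 2 ≤ b) (hV : Nat.card V = t ^ 2) (E F τ : Module.End (ZMod t) V)
    (hE : E ^ r = 1) (hscal : ∀ k : ZMod t, E ≠ k • 1) (hτ : τ ^ 2 ^ (b - 1) = -1)
    (hF : E * τ = τ * F) (hEF : Commute E F) : False := by
  classical
  have hrd : r ∣ t - 1 := dvd_pred_of_plane hr2 hrt htb hV E hE fun h => hscal 1 (by rw [h, one_smul])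
  have hb3 : 3 ≤ b := by
    by_contra h
    obtain rfl : b = 2 := by omega
    rw [show t - 1 = 2 by norm_num at htb; omega] at hrd
    exact hr2 ((Nat.prime_dvd_prime_iff_eq hr.out Nat.prime_two).1 hrd)
  haveI : Nontrivial V := Finite.one_lt_card_iff_nontrivial.1 (by
    rw [hV]; exact Nat.one_lt_pow two_ne_zero ht.out.one_lt)
  -- an eigenvector
  obtain ⟨ζu, hζu⟩ := exists_prime_orderOf_dvd_card' (G := (ZMod t)ˣ) r (by
    rwa [Nat.card_eq_fintype_card, ZMod.card_units])
  have hζ : IsPrimitiveRoot (ζu : ZMod t) r := by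
    rw [IsPrimitiveRoot.iff_def]
    refine ⟨by rw [← Units.val_pow_eq_pow_val, ← hζu, pow_orderOf_eq_one, Units.val_one], fun l hl => ?_⟩
    rw [← hζu]
    exact orderOf_dvd_of_pow_eq_one (Units.ext (by rw [Units.val_pow_eq_pow_val, hl, Units.val_one]))
  obtain ⟨y, k, hy, hk⟩ : ∃ (y : V) (k : ZMod t), y ≠ 0 ∧ E y = k • y := by
    by_contra hno
    push Not at hno
    have hinj : ∀ s : Finset (ZMod t),
        Function.Injective (Polynomial.aeval E (∏ c ∈ s, (Polynomial.X - Polynomial.C c))) := by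
      intro s
      induction s using Finset.induction_on with
      | empty => simp [Function.Injective]
      | @insert c s hc ih =>
        rw [Finset.prod_insert hc, map_mul, Module.End.coe_mul]
        refine Function.Injective.comp ?_ ih
        rw [injective_iff_map_eq_zero]
        intro v hv
        by_contra hv0
        refine hno v c hv0 ?_
        rw [map_sub, Polynomial.aeval_X, Polynomial.aeval_C, LinearMap.sub_apply,
          Module.algebraMap_end_apply, sub_eq_zero] at hv
        exact hv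
    have h := hinj (Polynomial.nthRootsFinset r (1 : ZMod t))
    rw [← Polynomial.X_pow_sub_one_eq_prod hr.out.pos hζ, map_sub, map_pow, Polynomial.aeval_X, map_one,
      hE, sub_self] at h
    obtain ⟨v, hv⟩ := exists_ne (0 : V)
    exact hv (h (by simp))
  have hEpow : ∀ {w : V} {c : ZMod t}, E w = c • w → ∀ j : ℕ, (E ^ j) w = c ^ j • w := by
    intro w c hw j
    induction j with
    | zero => simp
    | succ j ih => rw [pow_succ, Module.End.mul_apply, hw, map_smul, ih, smul_smul, pow_succ']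
  have hk0 : k ≠ 0 := fun h0 => hy <| by
    have h1 := hEpow hk r
    rwa [hE, h0, zero_pow hr.out.ne_zero, zero_smul, Module.End.one_apply] at h1
  -- a second eigenvector
  obtain ⟨y2, k2, hy2, hk2⟩ : ∃ (y2 : V) (k2 : ZMod t), (∀ a : ZMod t, a • y ≠ y2) ∧ E y2 = k2 • y2 := by
    by_contra hno
    push Not at hno
    obtain ⟨y', hy'⟩ : ∃ y' : V, ∀ a : ZMod t, a • y ≠ y' := by
      by_contra hall
      push Not at hall
      have : Nat.card V ≤ Nat.card (ZMod t) := Nat.card_le_card_of_surjective _ hall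
      rw [hV, Nat.card_zmod, sq] at this
      nlinarith [ht.out.two_le]
    obtain ⟨m, l, hml⟩ := exists_comb hV hy hy' (E y')
    by_cases hlk : l = k
    · subst hlk
      have hit : ∀ j : ℕ, (E ^ (j + 1)) y' = l ^ (j + 1) • y' + (((j : ZMod t) + 1) * l ^ j * m) • y := by
        intro j
        induction j with
        | zero => simp [← hml, add_comm]
        | succ j ih =>
          rw [pow_succ' E (j + 1), Module.End.mul_apply, ih, map_add, map_smul, map_smul, hk, ← hml,
            smul_add, smul_smul, smul_smul, smul_smul, Nat.cast_succ,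
            add_comm ((l ^ (j + 1) * m) • y), add_assoc, ← add_smul, ← pow_succ]
          congr 2
          ring
      have h1 := hit (r - 1)
      rw [Nat.sub_add_cancel hr.out.one_le, hE, Module.End.one_apply] at h1
      have hl0 : l ^ r = 1 := by
        have h2 := hEpow hk r
        rw [hE, Module.End.one_apply] at h2
        exact (smul_left_injective (ZMod t) hy (show (1 : ZMod t) • y = l ^ r • y by rw [one_smul]; exact h2)).symm
      rw [hl0, one_smul, left_eq_add, smul_eq_zero, or_iff_left hy, Nat.cast_sub hr.out.one_le, Nat.cast_one,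
        sub_add_cancel] at h1
      have hr0 : (r : ZMod t) ≠ 0 := fun h => hrt ((Nat.prime_dvd_prime_iff_eq ht.out hr.out).1
        ((ZMod.natCast_eq_zero_iff r t).1 h)).symm
      obtain rfl : m = 0 := by
        rcases mul_eq_zero.1 h1 with h | h
        · exact absurd h (mul_ne_zero hr0 (pow_ne_zero _ hk0))
        · exact h
      exact hno y' l hy' (by rw [← hml, zero_smul, zero_add])
    · refine hno (y' + (m / (l - k)) • y) l (fun a ha => hy' (a - m / (l - k)) ?_) ?_
      · rw [sub_smul, ha, add_sub_cancel_right]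
      · rw [map_add, map_smul, hk, ← hml, smul_add, smul_smul, smul_smul, add_comm (m • y), add_assoc,
          ← add_smul]
        congr 2
        field_simp [sub_ne_zero.2 hlk]
        ring
  have hy20 : y2 ≠ 0 := fun h => hy2 0 (by rw [h, zero_smul])
  have huniq : ∀ {a c : ZMod t}, a • y + c • y2 = 0 → a = 0 ∧ c = 0 := by
    intro a c h
    have h' := LinearIndependent.pair_iff.1 ((LinearIndependent.pair_iff' hy).2 hy2) a c h
    exact h'
  have hkk : k ≠ k2 := by
    intro e
    refine hscal k (LinearMap.ext fun w => ?_)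
    obtain ⟨a, c, rfl⟩ := exists_comb hV hy hy2 w
    rw [map_add, map_smul, map_smul, hk, hk2, ← e, LinearMap.smul_apply, Module.End.one_apply, smul_add,
      smul_comm a, smul_comm c]
  have hclass : ∀ (w : V) (c : ZMod t), E w = c • w → (∃ a : ZMod t, a • y = w) ∨ ∃ a : ZMod t, a • y2 = w := by
    intro w c hw
    obtain ⟨a, d, rfl⟩ := exists_comb hV hy hy2 w
    rw [map_add, map_smul, map_smul, hk, hk2, smul_smul, smul_smul, smul_add, smul_smul, smul_smul,
      ← sub_eq_zero, add_sub_add_comm, ← sub_smul, ← sub_smul] at hw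
    obtain ⟨h1, h2⟩ := huniq hw
    by_cases hd : d = 0
    · exact Or.inl ⟨a, by rw [hd, zero_smul, add_zero]⟩
    · refine Or.inr ⟨d, ?_⟩
      have hck : c = k2 := by
        have : d * (k2 - c) = 0 := by linear_combination h2
        exact (sub_eq_zero.1 ((mul_eq_zero.1 this).resolve_left hd)).symm
      have : a * (k - k2) = 0 := by rw [hck] at h1; linear_combination h1
      rw [(mul_eq_zero.1 this).resolve_right (sub_ne_zero.2 hkk), zero_smul, zero_add]
  have hτeig : ∀ (w : V) (c : ZMod t), w ≠ 0 → E w = c • w →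
      (∀ v, E v = c • v → ∃ a : ZMod t, a • w = v) →
      (∃ a : ZMod t, a • y = τ w) ∨ ∃ a : ZMod t, a • y2 = τ w := by
    intro w c _ hw hline
    obtain ⟨a, ha⟩ := hline (F w) (by rw [← Module.End.mul_apply, hEF.eq, Module.End.mul_apply, hw, map_smul])
    exact hclass _ a (by rw [← Module.End.mul_apply, hF, Module.End.mul_apply, ← ha, map_smul])
  have hline1 : ∀ v, E v = k • v → ∃ a : ZMod t, a • y = v := by
    intro v hv
    rcases hclass v k hv with h | ⟨a, rfl⟩
    · exact h
    · rw [map_smul, hk2, smul_smul, smul_smul, ← sub_eq_zero, ← sub_smul, smul_eq_zero, or_iff_left hy20] at hv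
      have ha : a = 0 := (mul_eq_zero.1 (show a * (k2 - k) = 0 by linear_combination hv)).resolve_right
        (sub_ne_zero.2 hkk.symm)
      exact ⟨0, by rw [ha, zero_smul, zero_smul]⟩
  have hline2 : ∀ v, E v = k2 • v → ∃ a : ZMod t, a • y2 = v := by
    intro v hv
    rcases hclass v k2 hv with ⟨a, rfl⟩ | h
    · rw [map_smul, hk, smul_smul, smul_smul, ← sub_eq_zero, ← sub_smul, smul_eq_zero, or_iff_left hy] at hv
      have ha : a = 0 := (mul_eq_zero.1 (show a * (k - k2) = 0 by linear_combination hv)).resolve_right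
        (sub_ne_zero.2 hkk)
      exact ⟨0, by rw [ha, zero_smul, zero_smul]⟩
    · exact h
  have hτinj : ∀ v, τ v = 0 → v = 0 := by
    intro v hv
    have h1 : (τ ^ 2 ^ (b - 1)) v = 0 := by
      rw [← Nat.sub_add_cancel (Nat.one_le_two_pow : 1 ≤ 2 ^ (b - 1)), pow_succ, Module.End.mul_apply, hv,
        map_zero]
    rwa [hτ, LinearMap.neg_apply, Module.End.one_apply, neg_eq_zero] at h1
  obtain ⟨κ, hκ⟩ : ∃ κ : ZMod t, κ • y = τ (τ y) := by
    rcases hτeig y k hy hk hline1 with ⟨a, ha⟩ | ⟨a, ha⟩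
    · exact ⟨a * a, by rw [← ha, map_smul, ← ha, smul_smul]⟩
    · rcases hτeig y2 k2 hy20 hk2 hline2 with ⟨c, hc⟩ | ⟨c, hc⟩
      · exact ⟨a * c, by rw [← ha, map_smul, ← hc, smul_smul]⟩
      · exfalso
        have h1 : τ (c • y - a • y2) = 0 := by
          rw [map_sub, map_smul, map_smul, ← ha, ← hc, smul_comm, sub_self]
        have h2 := huniq (show c • y + (-a) • y2 = 0 by rw [neg_smul, ← sub_eq_add_neg]; exact hτinj _ h1)
        exact hy (hτinj y (by rw [← ha, neg_eq_zero.1 h2.2, zero_smul]))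
  have hκpow : ∀ j : ℕ, (τ ^ (2 * j)) y = κ ^ j • y := by
    intro j
    induction j with
    | zero => simp
    | succ j ih =>
      rw [Nat.mul_succ, pow_add, Module.End.mul_apply, pow_two, Module.End.mul_apply, ← hκ, map_smul, ih,
        smul_smul, pow_succ']
  have hneg : κ ^ 2 ^ (b - 2) = -1 := by
    refine smul_left_injective (ZMod t) hy (show κ ^ 2 ^ (b - 2) • y = (-1 : ZMod t) • y from ?_)
    rw [← hκpow, ← pow_succ', show b - 2 + 1 = b - 1 by omega, hτ, LinearMap.neg_apply, Module.End.one_apply,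
      neg_smul, one_smul]
  have hκ0 : κ ≠ 0 := fun h => by
    rw [h, zero_pow (Nat.two_pow_pos _).ne'] at hneg
    exact neg_ne_zero.2 one_ne_zero hneg.symm
  have h2H : κ ^ 2 ^ (b - 1) = 1 := by
    rw [show b - 1 = b - 2 + 1 by omega, pow_succ, pow_mul, hneg]; norm_num
  have hg : Nat.gcd (2 ^ (b - 1)) (t - 1) ∣ 2 := by
    have h1 : Nat.gcd (2 ^ (b - 1)) (t - 1) ∣ 2 ^ b :=
      (Nat.gcd_dvd_left _ _).trans (pow_dvd_pow 2 (Nat.sub_le b 1))
    have h3 := Nat.dvd_sub h1 (Nat.gcd_dvd_right (2 ^ (b - 1)) (t - 1))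
    have := ht.out.one_le
    rwa [show 2 ^ b - (t - 1) = 2 by omega] at h3
  have hκ2 : κ ^ 2 = 1 := by
    obtain ⟨w, hw⟩ := hg
    rw [hw, pow_mul, pow_gcd_eq_one.2 ⟨h2H, ZMod.pow_card_sub_one_eq_one hκ0⟩, one_pow]
  rw [show b - 2 = b - 3 + 1 by omega, pow_succ', pow_mul, hκ2, one_pow] at hneg
  have h12 : (2 : ZMod t) = 0 := by linear_combination hneg
  have ht2 : t ∣ 2 := (ZMod.natCast_eq_zero_iff 2 t).1 (by exact_mod_cast h12)
  have := Nat.le_of_dvd two_pos ht2
  have : 2 ^ 3 ≤ 2 ^ b := Nat.pow_le_pow_right (by norm_num) hb3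
  omega

end CfsgLib.ShultGross
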