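import Cfsg.Agent.Lib.Frobenius.ClassTwoBound
import Mathlib

/-!
An operator of two-power order without eigenvalue one, irreducible together with a class-two group:
the commutator prime is one less than the order.
-/

set_option autoImplicit false
set_option linter.style.haveILetI false
open scoped commutatorElement

namespace CfsgLib.ShultGross

open CfsgLib.Twisted

theorem two_power_arith {q n b O β d S : ℕ} (hq : q.Prime) (hq2 : q ≠ 2) (hn : 0 < n) (hd : 0 < d)
    (hN : q ^ (2 * n) = 1 + O * 2 ^ b) (hE : d * d = q ^ (2 * n) * β)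
    (h1 : d * d ≤ (2 ^ b - 1) * S) (h2 : S ≤ 1 + O * β) (h3 : d ≤ S) :
    n = 1 ∧ q + 1 = 2 ^ b ∧ 2 ≤ b := by
  obtain ⟨M, hM⟩ : ∃ M, M = q ^ n := ⟨_, rfl⟩
  have hMM : q ^ (2 * n) = M * M := by rw [hM, ← pow_add, two_mul]
  rw [hMM] at hN hE
  have hodd : Odd M := hM ▸ (hq.odd_of_ne_two hq2).pow
  obtain ⟨k, hk⟩ := hodd
  have hM3 : 3 ≤ M := by
    have h := Nat.le_self_pow hn.ne' q
    have := hq.two_le
    omega
  obtain ⟨P, hP⟩ : ∃ P, 2 ^ b = P + 1 := ⟨2 ^ b - 1, by have := Nat.one_le_two_pow (n := b); omega⟩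
  rw [hP, Nat.add_sub_cancel] at h1
  have hβ : 0 < β := Nat.pos_of_ne_zero fun h => by
    rw [h, mul_zero] at hE
    exact absurd hE (Nat.mul_pos hd hd).ne'
  have h4 : β * (1 + O) ≤ P := by
    have := h1.trans (Nat.mul_le_mul_left P h2)
    rw [hE, hN, hP] at this
    nlinarith
  have hMP : M ≤ P := by
    have hO : O + 1 ≤ P := by nlinarith
    nlinarith [hN, hP]
  obtain ⟨c, hc⟩ : ∃ c, b = c + 2 := ⟨b - 2, by
    by_contra h
    have : 2 ^ b ≤ 2 ^ 1 := Nat.pow_le_pow_right (by norm_num) (by omega)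
    omega⟩
  obtain ⟨J, hJ⟩ : ∃ J, J = 2 ^ c := ⟨_, rfl⟩
  have hPJ : P + 1 = 4 * J := by rw [← hP, hc, hJ]; ring
  have hkk : k * (k + 1) = J * O := by
    rw [hP, hPJ, hk] at hN
    nlinarith
  have hcases : M = 2 * J + 1 ∨ M + 1 = 2 * J ∨ M + 1 = 4 * J := by
    rcases Nat.even_or_odd k with he | ho
    · have hco : Nat.Coprime J (k + 1) :=
        hJ ▸ Nat.Coprime.pow_left c (Nat.coprime_two_left.2 he.add_one)
      obtain ⟨i, hi⟩ := hco.dvd_of_dvd_mul_right ⟨O, hkk⟩
      have : i < 2 := by nlinarith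
      interval_cases i <;> omega
    · have hco : Nat.Coprime J k := hJ ▸ Nat.Coprime.pow_left c (Nat.coprime_two_left.2 ho)
      obtain ⟨i, hi⟩ := hco.dvd_of_dvd_mul_left ⟨O, hkk⟩
      have : i < 3 := by nlinarith
      interval_cases i <;> omega
  obtain ⟨s, hs⟩ : M ∣ d := by
    have : M ^ 2 ∣ d ^ 2 := ⟨β, by rw [pow_two, pow_two, hE]⟩
    exact (Nat.pow_dvd_pow_iff two_ne_zero).1 this
  have hβs : β = s * s := by
    refine Nat.eq_of_mul_eq_mul_left (show 0 < M * M by positivity) ?_
    rw [← hE, hs]; ring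
  have hMeq : M + 1 = 2 ^ b := by
    rw [hP, hPJ]
    by_contra hne
    have hs0 : 0 < s := by nlinarith
    have hMid : M = 2 * J + 1 ∨ M + 1 = 2 * J := by omega
    rcases Nat.lt_or_ge s 2 with hs1 | hs2
    · obtain rfl : s = 1 := by omega
      rw [hβs] at h2
      have hMO : M ≤ 1 + O := by rw [mul_one] at hs; omega
      rcases hMid with h | h
      · obtain rfl : k = J := by omega
        have := Nat.eq_of_mul_eq_mul_left (show 0 < k by omega) hkk
        omega
      · obtain rfl : J = k + 1 := by omega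
        rw [mul_comm] at hkk
        have := Nat.eq_of_mul_eq_mul_left (Nat.succ_pos k) hkk
        omega
    · have h5 : 4 * (1 + O) ≤ P := by nlinarith
      rcases hMid with h | h <;> nlinarith
  rw [hM] at hMeq
  have hb2 : 2 ≤ b := by omega
  suffices h : n = 1 ∧ q + 1 = 2 ^ b from ⟨h.1, h.2, hb2⟩
  rcases Nat.even_or_odd n with ⟨i, hi⟩ | ⟨i, hi⟩
  · exfalso
    obtain ⟨j, hj⟩ := (hq.odd_of_ne_two hq2).pow (n := i)
    rw [hi, pow_add, hj, hc, pow_add] at hMeq
    have h6 : (2 * j + 1) * (2 * j + 1) + 1 = 4 * (j * j + j) + 2 := by ring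
    omega
  · obtain ⟨j, hjb, hj⟩ := (Nat.dvd_prime_pow Nat.prime_two).1
      (show q + 1 ∣ 2 ^ b from hMeq ▸ by simpa using Odd.nat_add_dvd_pow_add_pow q 1 (⟨i, hi⟩ : Odd n))
    have hjb' : j = b := by
      by_contra hne
      have hsq : q ^ 2 ≡ 1 [MOD 2 ^ (j + 1)] := by
        refine ((Nat.modEq_iff_dvd' (Nat.one_le_pow _ _ hq.pos)).2 ?_).symm
        obtain ⟨w, hw⟩ := hq.odd_of_ne_two hq2
        refine ⟨w, ?_⟩
        rw [pow_succ 2 j, ← hj, hw]
        apply Nat.sub_eq_of_eq_add
        ring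
      have hmod : q ^ n + 1 ≡ q + 1 [MOD 2 ^ (j + 1)] := by
        have := (hsq.pow i).mul_right q
        rw [one_pow, one_mul, ← pow_mul, ← pow_succ, ← hi] at this
        exact this.add_right 1
      rw [hMeq, hj] at hmod
      have hzero : 2 ^ b ≡ 0 [MOD 2 ^ (j + 1)] :=
        Nat.modEq_zero_iff_dvd.2 (pow_dvd_pow 2 (by omega))
      have h7 := Nat.le_of_dvd (Nat.two_pow_pos j) (Nat.modEq_zero_iff_dvd.1 (hmod.symm.trans hzero))
      rw [pow_succ] at h7
      have := Nat.two_pow_pos j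
      omega
    subst hjb'
    have h8 : q ^ n = q ^ 1 := by rw [pow_one]; omega
    exact ⟨Nat.pow_right_injective hq.two_le h8, hj⟩

variable {K : Type*} [Field K] {W : Type*} [AddCommGroup W] [Module K W]
variable {Q : Type*} [Group Q]

theorem scalar_of_commute [IsAlgClosed K] [FiniteDimensional K W] [Nontrivial W]
    {a : Q →* Module.End K W} {T : Module.End K W}
    (hirr : ∀ U : Submodule K W, (∀ u, ∀ w ∈ U, a u w ∈ U) → (∀ w ∈ U, T w ∈ U) → U = ⊥ ∨ U = ⊤)
    {f : Module.End K W} (hf : f ∈ commEnd a) (hfT : T * f = f * T) :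
    f ∈ Submodule.span K {(1 : Module.End K W)} := by
  obtain ⟨c, hc⟩ := Module.End.exists_eigenvalue f
  rcases hirr (Module.End.eigenspace f c) (fun u w hw => by
      rw [Module.End.mem_eigenspace_iff] at hw ⊢
      rw [← Module.End.mul_apply, ← hf u, Module.End.mul_apply, hw, map_smul])
    (fun w hw => by
      rw [Module.End.mem_eigenspace_iff] at hw ⊢
      rw [← Module.End.mul_apply, ← hfT, Module.End.mul_apply, hw, map_smul]) with h | h
  · exact absurd h hc
  · refine Submodule.mem_span_singleton.2 ⟨c, LinearMap.ext fun w => ?_⟩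
    exact (Module.End.mem_eigenspace_iff.1 (h.ge (Submodule.mem_top (x := w)))).symm

variable [Fintype Q] {a : Q →* Module.End K W}

/-- The centralizer of `T` when `T` and the group act irreducibly. -/
theorem finrank_centEnd_le_irr [IsAlgClosed K] [FiniteDimensional K W] [Nontrivial W] (S : Setting a)
    (T : Module.End K W)
    (hirr : ∀ U : Submodule K W, (∀ u, ∀ w ∈ U, a u w ∈ U) → (∀ w ∈ U, T w ∈ U) → U = ⊥ ∨ U = ⊤)
    (σ : MulAut Q) {h : ℕ} (hh : 0 < h) (hσ : σ ^ h = 1)
    (hfree : ∀ i : ℕ, 0 < i → i < h → ∀ u : Q, u⁻¹ * (σ ^ i) u ∈ Subgroup.center Q →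
      u ∈ Subgroup.center Q)
    (hT : T ^ h = 1) (hconj : ∀ u, T * a u = a (σ u) * T) :
    ∃ O : ℕ, Nat.card (Q ⧸ Subgroup.center Q) = 1 + O * h ∧
      Module.finrank K (centEnd T) ≤ 1 + O * Module.finrank K (commEnd a) := by
  classical
  haveI : Fintype (Q ⧸ Subgroup.center Q) := Fintype.ofFinite _
  have hmap : ∀ τ : MulAut Q, (Subgroup.center Q).map (τ : Q →* Q) = Subgroup.center Q := fun τ =>
    Subgroup.characteristic_iff_map_eq.1 inferInstance τ
  let bar : MulAut Q →* MulAut (Q ⧸ Subgroup.center Q) :=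
    { toFun := fun τ => QuotientGroup.congr _ _ τ (hmap τ)
      map_one' := MulEquiv.ext fun v => by
        obtain ⟨u, rfl⟩ := QuotientGroup.mk_surjective v
        rfl
      map_mul' := fun τ τ' => MulEquiv.ext fun v => by
        obtain ⟨u, rfl⟩ := QuotientGroup.mk_surjective v
        rfl }
  have hbar : ∀ (τ : MulAut Q) (u : Q), bar τ (u : Q ⧸ Subgroup.center Q) = ((τ u : Q) : Q ⧸ _) :=
    fun τ u => rfl
  set A := Subgroup.zpowers (bar σ)
  let Y := {v : Q ⧸ Subgroup.center Q // v ≠ 1}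
  letI iY : MulAction A Y :=
    { smul := fun g v => ⟨g.1 v.1, fun he => v.2 (g.1.injective (he.trans (map_one g.1).symm))⟩
      one_smul := fun v => Subtype.ext rfl
      mul_smul := fun g g' v => Subtype.ext rfl }
  have hσh : bar σ ^ h = 1 := by rw [← map_pow, hσ, map_one]
  have hA : ∀ g : A, ∃ i : ℕ, i < h ∧ bar σ ^ i = (g : MulAut _) := by
    intro g
    obtain ⟨i, hi⟩ := (mem_powers_iff_mem_zpowers (x := bar σ)).2 g.2
    exact ⟨i % h, Nat.mod_lt _ hh, (pow_eq_pow_mod i hσh).symm.trans hi⟩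
  have hstab : ∀ v : Y, MulAction.stabilizer A v = ⊥ := by
    intro v
    rw [Subgroup.eq_bot_iff_forall]
    intro g hg
    obtain ⟨u, hu⟩ := QuotientGroup.mk_surjective v.1
    obtain ⟨i, hi, hig⟩ := hA g
    rcases Nat.eq_zero_or_pos i with rfl | hi0
    · exact Subtype.ext (by rw [← hig, pow_zero]; rfl)
    exfalso
    apply v.2
    rw [← hu, QuotientGroup.eq_one_iff]
    refine hfree i hi0 hi u ?_
    rw [← QuotientGroup.eq]
    have h1 : g.1 v.1 = v.1 := congrArg Subtype.val hg
    rw [← hig, ← map_pow, ← hu, hbar] at h1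
    exact h1.symm
  haveI : Fintype (Quotient (MulAction.orbitRel A Y)) := Fintype.ofFinite _
  set O := Fintype.card (Quotient (MulAction.orbitRel A Y))
  refine ⟨O, ?_, ?_⟩
  · have hY : Nat.card Y = Nat.card (Q ⧸ Subgroup.center Q) - 1 := by
      rw [Nat.card_eq_fintype_card, Fintype.card_subtype_compl, Fintype.card_subtype_eq,
        Nat.card_eq_fintype_card]
    have hpos : 0 < Nat.card (Q ⧸ Subgroup.center Q) := Nat.card_pos
    have hO : Nat.card (Quotient (MulAction.orbitRel A Y)) = O := Nat.card_eq_fintype_card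
    have h1 : Nat.card Y = O * Nat.card A := by
      rw [Nat.card_congr (MulAction.selfEquivOrbitsQuotientProd hstab), Nat.card_prod, hO]
    rcases isEmpty_or_nonempty Y with hY0 | hY0
    · have hO0 : O = 0 := by
        have hA0 : 0 < Nat.card A := Nat.card_pos
        rw [Nat.card_of_isEmpty] at h1
        rcases Nat.mul_eq_zero.1 h1.symm with h3 | h3 <;> omega
      rw [Nat.card_of_isEmpty] at hY
      rw [hO0]; omega
    · obtain ⟨v⟩ := hY0
      have hord : orderOf (bar σ) = h := by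
        refine le_antisymm (Nat.le_of_dvd hh (orderOf_dvd_of_pow_eq_one hσh)) ?_
        by_contra hlt
        push Not at hlt
        obtain ⟨u, hu⟩ := QuotientGroup.mk_surjective v.1
        refine v.2 ?_
        rw [← hu, QuotientGroup.eq_one_iff]
        refine hfree _ (orderOf_pos _) hlt u ?_
        rw [← QuotientGroup.eq, ← hbar, map_pow, pow_orderOf_eq_one]
        rfl
      have hAcard : Nat.card A = h := (Nat.card_zpowers _).trans hord
      rw [hAcard] at h1
      omega
  · have hfirst : ∀ f : centEnd T, T * coord a 1 f.1 = coord a 1 f.1 * T := by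
      intro f
      rw [coord_apply, Finset.mul_sum, Finset.sum_mul]
      refine Fintype.sum_equiv σ.toEquiv _ _ fun u => ?_
      show T * (a u * f.1 * a (1⁻¹ * u⁻¹)) = a (σ u) * f.1 * a (1⁻¹ * (σ u)⁻¹) * T
      rw [inv_one, one_mul, one_mul, ← map_inv σ, mul_assoc _ _ T, ← hconj, ← mul_assoc T,
        ← mul_assoc T, hconj u, mul_assoc (a (σ u)), mem_centEnd.1 f.2]
      simp only [mul_assoc]
    let Φ : centEnd T →ₗ[K] Submodule.span K {(1 : Module.End K W)} × (Quotient (MulAction.orbitRel A Y) → commEnd a) :=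
      { toFun := fun f => (⟨coord a 1 f.1, scalar_of_commute hirr (coord_mem _ _) (hfirst f)⟩,
          fun o => ⟨coord a (o.out : Y).1.out f.1, coord_mem _ _⟩)
        map_add' := fun f g => Prod.ext (Subtype.ext (map_add _ _ _))
          (funext fun o => Subtype.ext (map_add _ _ _))
        map_smul' := fun c f => Prod.ext (Subtype.ext (map_smul _ _ _))
          (funext fun o => Subtype.ext (map_smul _ _ _)) }
    have hΦ : Function.Injective Φ := by
      rw [injective_iff_map_eq_zero]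
      intro f hf
      apply Subtype.ext
      refine eq_zero_of_coord S fun v => ?_
      have hzero : ∀ c d : Q, (c : Q ⧸ Subgroup.center Q) = d → coord a c f.1 = 0 →
          coord a d f.1 = 0 := by
        intro c d hcd hc
        obtain ⟨z, hz, rfl⟩ : ∃ z ∈ Subgroup.center Q, c * z = d :=
          ⟨c⁻¹ * d, QuotientGroup.eq.1 hcd, mul_inv_cancel_left c d⟩
        have h1 := coord_mul_center S c hz f.1
        rw [hc, zero_mul] at h1
        have h2 := congrArg (· * a (c * z)⁻¹) h1
        simpa [mul_assoc, ← map_mul] using h2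
      by_cases hv : v = 1
      · refine hzero 1 _ ?_ (congrArg Subtype.val (congrArg Prod.fst hf))
        rw [hv, QuotientGroup.out_eq', QuotientGroup.mk_one]
      set o : Quotient (MulAction.orbitRel A Y) := Quotient.mk'' ⟨v, hv⟩
      have h0 : coord a (o.out : Y).1.out f.1 = 0 :=
        congrArg Subtype.val (congrFun (congrArg Prod.snd hf) o)
      obtain ⟨g, hg⟩ := MulAction.orbitRel_apply.1
        (Quotient.exact' (Quotient.out_eq' o).symm : MulAction.orbitRel A Y ⟨v, hv⟩ o.out)
      obtain ⟨i, -, hig⟩ := hA g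
      have key : ∀ (i : ℕ) (c : Q), coord a c f.1 = 0 → coord a ((σ ^ i) c) f.1 = 0 := by
        intro i
        induction i with
        | zero => intro c hc; simpa using hc
        | succ i ih =>
          intro c hc
          rw [pow_succ', MulAut.mul_apply]
          have hc' := ih c hc
          have h1 : coord a (σ ((σ ^ i) c)) f.1 * T = T * coord a ((σ ^ i) c) f.1 := by
            rw [coord_apply, coord_apply, Finset.mul_sum, Finset.sum_mul]
            refine (Fintype.sum_equiv σ.toEquiv _ _ fun u => ?_).symm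
            show T * (a u * f.1 * a (((σ ^ i) c)⁻¹ * u⁻¹)) =
              a (σ u) * f.1 * a ((σ ((σ ^ i) c))⁻¹ * (σ u)⁻¹) * T
            rw [← map_inv σ, ← map_inv σ, ← map_mul σ, mul_assoc _ _ T, ← hconj, ← mul_assoc T,
              ← mul_assoc T, hconj u, mul_assoc (a (σ u)), mem_centEnd.1 f.2]
            simp only [mul_assoc]
          rw [hc', mul_zero] at h1
          have hunit : T * T ^ (h - 1) = 1 := by rw [← pow_succ', Nat.sub_add_cancel hh, hT]
          have h2 := congrArg (· * T ^ (h - 1)) h1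
          simpa [mul_assoc, hunit] using h2
      refine hzero _ _ ?_ (key i _ h0)
      rw [← hbar, QuotientGroup.out_eq', QuotientGroup.out_eq', map_pow, hig]
      exact congrArg Subtype.val hg
    refine (LinearMap.finrank_le_finrank_of_injective hΦ).trans (le_of_eq ?_)
    rw [Module.finrank_prod, Module.finrank_pi_fintype, Finset.sum_const, Finset.card_univ, smul_eq_mul,
      finrank_span_singleton one_ne_zero]


open CfsgLib.Twisted in
/-- An irreducible operator of two-power order without eigenvalue one forces `q + 1` to be its order. -/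
theorem two_power_bound [IsAlgClosed K] [FiniteDimensional K W] [Nontrivial W] (S : Setting a)
    {q : ℕ} [hq : Fact q.Prime] (hq2 : q ≠ 2) (hQ : Nat.card (commutator Q) = q) (T : Module.End K W)
    (σ : MulAut Q) {b : ℕ} (h2K : (2 : K) ≠ 0) (hσ : σ ^ 2 ^ b = 1)
    (hfree : ∀ i : ℕ, 0 < i → i < 2 ^ b → ∀ u : Q, u⁻¹ * (σ ^ i) u ∈ Subgroup.center Q →
      u ∈ Subgroup.center Q)
    (hT : T ^ 2 ^ b = 1) (hconj : ∀ u, T * a u = a (σ u) * T)
    (hsum : ∑ i ∈ Finset.range (2 ^ b), T ^ i = 0)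
    (hirr : ∀ U : Submodule K W, (∀ u, ∀ w ∈ U, a u w ∈ U) → (∀ w ∈ U, T w ∈ U) → U = ⊥ ∨ U = ⊤) :
    q + 1 = 2 ^ b ∧ 2 ≤ b ∧ Nat.card (Q ⧸ Subgroup.center Q) = q ^ 2 := by
  classical
  obtain ⟨n, hn, hN⟩ := exists_index_center S.cls hQ
  set P := 2 ^ b with hP
  have hP0 : 0 < P := Nat.two_pow_pos b
  have hPK : (P : K) ≠ 0 := by rw [hP, Nat.cast_pow]; exact pow_ne_zero _ (by exact_mod_cast h2K)
  haveI : NeZero (P : K) := ⟨hPK⟩
  obtain ⟨ω, hω⟩ := HasEnoughRootsOfUnity.exists_primitiveRoot K P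
  obtain ⟨m, hm1, hm2, hm3⟩ := exists_eigen_split T hP0 hT hPK hω
  obtain ⟨O, hO, hC⟩ := finrank_centEnd_le_irr S T hirr σ hP0 hσ hfree hT hconj
  have hm0 := hm3 hsum
  set d := Module.finrank K W
  have hcs : d * d ≤ (P - 1) * ∑ j, m j * m j := by
    set z : Fin P := ⟨0, hP0⟩
    have h1 : ∑ j ∈ Finset.univ.erase z, m j = d := by rw [Finset.sum_erase _ hm0, hm1]
    have h2 : ∑ j ∈ Finset.univ.erase z, m j * m j = ∑ j, m j * m j :=
      Finset.sum_erase _ (show m z * m z = 0 by rw [hm0, mul_zero])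
    have h3 := sq_sum_le_card_mul_sum_sq (s := Finset.univ.erase z) (f := m)
    rw [Finset.card_erase_of_mem (Finset.mem_univ z), Finset.card_univ, Fintype.card_fin, h1] at h3
    simp only [pow_two, Nat.cast_id] at h3
    rwa [h2] at h3
  obtain ⟨hn1, hqb, hb⟩ := two_power_arith hq.out hq2 hn Module.finrank_pos (hN ▸ hO)
    (hN ▸ finrank_end_eq S) hcs (hm2.trans hC)
    (hm1.ge.trans (Finset.sum_le_sum fun j _ => Nat.le_mul_self (m j)))
  exact ⟨hqb, hb, by rw [hN, hn1, mul_one]⟩

end CfsgLib.ShultGross
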