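import Cfsg.Agent.Lib.ShultGross.Pairing
import Cfsg.Agent.Lib.ShultGross.TwoPower
import Cfsg.Agent.Lib.ShultGross.Plane
import Mathlib

/-!
The eigenspace of the centre of a critical subgroup: no configuration with two inverted automorphisms
whose commutator moves the critical subgroup exists.
-/

set_option autoImplicit false
set_option linter.style.haveILetI false
open scoped commutatorElement

namespace CfsgLib.ShultGross

theorem iterate_mem {G : Type*} [Group G] (σ : MulAut G) (M : Subgroup G) (hM : ∀ x ∈ M, σ x ∈ M)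
    {u : G} (h : u⁻¹ * σ u ∈ M) : ∀ k : ℕ, u⁻¹ * (σ ^ k) u ∈ M := by
  intro k
  induction k with
  | zero => simp
  | succ k ih =>
    have := mul_mem h (hM _ ih)
    rwa [map_mul, map_inv, mul_assoc u⁻¹, mul_inv_cancel_left, ← MulAut.mul_apply, ← pow_succ'] at this

theorem commutator_mul_of_class_two {G : Type*} [Group G] {x x' y : G}
    (h : Commute ⁅x', y⁆ x) (h' : Commute ⁅x', y⁆ ⁅x, y⁆) : ⁅x * x', y⁆ = ⁅x, y⁆ * ⁅x', y⁆ := by
  calc ⁅x * x', y⁆ = x * ⁅x', y⁆ * x⁻¹ * ⁅x, y⁆ := by simp only [commutatorElement_def]; group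
    _ = ⁅x', y⁆ * ⁅x, y⁆ := by rw [← h.eq, mul_inv_cancel_right]
    _ = _ := h'.eq

universe u v w

set_option maxHeartbeats 1600000 in
theorem eigen_false {t r N : ℕ} [ht : Fact t.Prime] [hr : Fact r.Prime] (ht2 : t ≠ 2) (hr2 : r ≠ 2)
    (hrt : r ≠ t) {T : Type u} [Group T] [Finite T] (hT : IsPGroup t T) (s : MulAut T)
    (hs : s ^ 2 ^ (N + 1) = 1) (C : Subgroup T) [hC : C.Characteristic]
    (hcl : ∀ x ∈ C, ∀ y ∈ C, ⁅x, y⁆ ∈ Subgroup.centralizer (C : Set T))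
    (hct : ∀ x ∈ C, ∀ y ∈ C, ⁅x, y⁆ ^ t = 1)
    (hzZ : ∀ x ∈ C ⊓ Subgroup.centralizer (C : Set T), (s ^ 2 ^ N) x = x)
    {u v e : MulAut T} {i j : ℕ} (hui : u ^ r ^ i = 1) (hvj : v ^ r ^ j = 1)
    (huZ : ∀ x ∈ C ⊓ Subgroup.centralizer (C : Set T), u x = x)
    (hvZ : ∀ x ∈ C ⊓ Subgroup.centralizer (C : Set T), v x = x)
    (he : e = ⁅u, v⁆) (heu : Commute e u) (hev : Commute e v) (her : e ^ r = 1)
    (hze : Commute (s ^ 2 ^ N) e) (hzu : s ^ 2 ^ N * u = u⁻¹ * s ^ 2 ^ N)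
    (hzv : s ^ 2 ^ N * v = v⁻¹ * s ^ 2 ^ N) (heconj : ∀ k : ℕ, Commute e ((s ^ k)⁻¹ * e * s ^ k))
    {K : Type w} [Field K] [IsAlgClosed K] (h2K : (2 : K) ≠ 0) (htK : (t : K) ≠ 0)
    {W : Type v} [AddCommGroup W] [Module K W] [FiniteDimensional K W] (ρ : T →* Module.End K W)
    (X : Module.End K W) (hconj : ∀ g, X * ρ g = ρ (s g) * X) (hX : X ^ 2 ^ (N + 1) = 1)
    (hsum : ∑ k ∈ Finset.range (2 ^ (N + 1)), X ^ k = 0)
    {c d : T} (hc : c ∈ C) (hd : d ∈ C) (hf : ρ ⁅c⁻¹ * e c, d⁆ ≠ 1) : False := by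
  classical
  haveI : Fintype T := Fintype.ofFinite T
  set z := s ^ 2 ^ N with hz
  set Z := C ⊓ Subgroup.centralizer (C : Set T) with hZdef
  have hzz : ∀ x, z (z x) = x := fun x => by
    rw [← MulAut.mul_apply, hz, ← pow_add, ← two_mul, ← pow_succ', hs]; rfl
  have hmapC : ∀ (α : MulAut T) {x : T}, x ∈ C → α x ∈ C := fun α x hx =>
    Subgroup.characteristic_iff_le_comap.1 hC α hx
  have hmapZ : ∀ (α : MulAut T) {x : T}, x ∈ Z → α x ∈ Z := fun α x hx =>
    ⟨hmapC α hx.1, Subgroup.mem_centralizer_iff.2 fun y hy => by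
      rw [← MulAut.apply_inv_self _ α y, ← map_mul, ← map_mul,
        Subgroup.mem_centralizer_iff.1 hx.2 _ (hmapC α⁻¹ hy)]⟩
  have hZcomm : ∀ x ∈ Z, ∀ y ∈ C, Commute x y := fun x hx y hy =>
    (Subgroup.mem_centralizer_iff.1 hx.2 y hy).symm
  have hclZ : ∀ x ∈ C, ∀ y ∈ C, ⁅x, y⁆ ∈ Z := fun x hx y hy =>
    ⟨(Subgroup.commutator_le_self C) (Subgroup.commutator_mem_commutator hx hy), hcl x hx y hy⟩
  have hcardK : ∀ {m : ℕ}, m ∣ Nat.card T → (m : K) ≠ 0 := by
    intro m hm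
    obtain ⟨k, hk⟩ := hT.exists_card_eq
    obtain ⟨l, -, rfl⟩ := (Nat.dvd_prime_pow ht.out).1 (hk ▸ hm)
    rw [Nat.cast_pow]
    exact pow_ne_zero _ htK
  set w₁ := c⁻¹ * e c with hw₁
  have hw₁C : w₁ ∈ C := mul_mem (inv_mem hc) (hmapC e hc)
  set f := ⁅w₁, d⁆ with hfdef
  have hfZ : f ∈ Z := hclZ _ hw₁C _ hd
  have hρcomm : ∀ {ζ : T}, ζ ∈ Z → ∀ g ∈ C, ∀ w : W, ρ ζ (ρ g w) = ρ g (ρ ζ w) := by
    intro ζ hζ g hg w
    rw [← Module.End.mul_apply, ← Module.End.mul_apply, ← map_mul, ← map_mul, (hZcomm ζ hζ g hg).eq]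
  -- an eigenspace of the centre
  set U₀ := LinearMap.range (ρ f - 1) with hU₀
  have hU₀inv : ∀ g ∈ C, ∀ w ∈ U₀, ρ g w ∈ U₀ := by
    rintro g hg _ ⟨w, rfl⟩
    exact ⟨ρ g w, by simp [hρcomm hfZ g hg]⟩
  have hU₀ne : U₀ ≠ ⊥ := by
    rw [Ne, hU₀, LinearMap.range_eq_bot, sub_eq_zero]
    exact hf
  obtain ⟨W0, ⟨hW0, hW0U, hW0inv⟩, hW0min⟩ := wellFounded_lt.has_min
    {W' : Submodule K W | W' ≠ ⊥ ∧ W' ≤ U₀ ∧ ∀ g ∈ C, ∀ w ∈ W', ρ g w ∈ W'} ⟨U₀, hU₀ne, le_rfl, hU₀inv⟩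
  haveI : Nontrivial W0 := Submodule.nontrivial_iff_ne_bot.2 hW0
  have hscal : ∀ ζ : T, ∃ k : K, ζ ∈ Z → ∀ w ∈ W0, ρ ζ w = k • w := by
    intro ζ
    by_cases hζ : ζ ∈ Z
    swap
    · exact ⟨0, fun h => absurd h hζ⟩
    obtain ⟨k, hk⟩ := Module.End.exists_eigenvalue
      ((ρ ζ).restrict (fun w hw => hW0inv ζ hζ.1 w hw) : Module.End K W0)
    obtain ⟨⟨y, hyW⟩, hy, hy0⟩ := hk.exists_hasEigenvector
    refine ⟨k, fun _ w hw => ?_⟩
    have hW' : W0 ⊓ Module.End.eigenspace (ρ ζ) k = W0 := by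
      refine inf_le_left.eq_of_not_lt (hW0min _ ⟨?_, inf_le_left.trans hW0U, ?_⟩)
      · intro h
        have hy' : y ∈ W0 ⊓ Module.End.eigenspace (ρ ζ) k :=
          ⟨hyW, Module.End.mem_eigenspace_iff.2 (congrArg Subtype.val (Module.End.mem_eigenspace_iff.1 hy))⟩
        rw [h, Submodule.mem_bot] at hy'
        exact hy0 (Subtype.ext hy')
      · intro g hg x hx
        refine ⟨hW0inv g hg x hx.1, Module.End.mem_eigenspace_iff.2 ?_⟩
        rw [hρcomm hζ g hg, Module.End.mem_eigenspace_iff.1 hx.2, map_smul]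
    exact Module.End.mem_eigenspace_iff.1 (hW'.ge hw).2
  choose lam hlam using hscal
  obtain ⟨w₀, hw₀, hw₀0⟩ := Submodule.exists_mem_ne_zero_of_ne_bot hW0
  have hlam1 : lam 1 = 1 := smul_left_injective K hw₀0 (by
    have := hlam 1 (one_mem _) w₀ hw₀
    rw [map_one, Module.End.one_apply] at this
    show lam 1 • w₀ = (1 : K) • w₀
    rw [one_smul, ← this])
  have hlammul : ∀ a ∈ Z, ∀ b ∈ Z, lam (a * b) = lam a * lam b :=
    fun a ha b hb => smul_left_injective K hw₀0 (by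
      show lam (a * b) • w₀ = (lam a * lam b) • w₀
      rw [← hlam _ (mul_mem ha hb) w₀ hw₀, map_mul, Module.End.mul_apply, hlam b hb w₀ hw₀, map_smul,
        hlam a ha w₀ hw₀, smul_smul, mul_comm])
  have hlampow : ∀ a ∈ Z, ∀ k : ℕ, lam (a ^ k) = lam a ^ k := by
    intro a ha k
    induction k with
    | zero => simpa using hlam1
    | succ k ih => rw [pow_succ, hlammul _ (pow_mem ha k) a ha, ih, pow_succ]
  have hlamf : lam f ≠ 1 := by
    intro h
    obtain ⟨x, hx⟩ := hW0U hw₀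
    have hfix : ρ f w₀ = w₀ := by rw [hlam f hfZ w₀ hw₀, h, one_smul]
    have h1 : (∑ k ∈ Finset.range (orderOf f), ρ f ^ k) w₀ = 0 := by
      rw [← hx, ← Module.End.mul_apply, geom_sum_mul, ← map_pow, pow_orderOf_eq_one, map_one, sub_self,
        LinearMap.zero_apply]
    have hp' : ∀ k : ℕ, (ρ f ^ k) w₀ = w₀ := by
      intro k
      induction k with
      | zero => rfl
      | succ k ih => rw [pow_succ, Module.End.mul_apply, hfix, ih]
    rw [LinearMap.sum_apply] at h1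
    simp only [hp', Finset.sum_const, Finset.card_range, ← Nat.cast_smul_eq_nsmul K] at h1
    exact hw₀0 ((smul_eq_zero.1 h1).resolve_left (hcardK (orderOf_dvd_natCard f)))
  -- periods of the eigenvalue system
  let L : ℕ → T → K := fun k ζ => lam ((s⁻¹ ^ k) ζ)
  let Per : ℕ → Prop := fun k => ∀ ζ ∈ Z, L k ζ = lam ζ
  have hPadd : ∀ k l, Per k → (Per (k + l) ↔ Per l) := by
    intro k l hk
    refine forall₂_congr fun ζ hζ => ?_
    show lam ((s⁻¹ ^ (k + l)) ζ) = _ ↔ lam ((s⁻¹ ^ l) ζ) = _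
    rw [pow_add, MulAut.mul_apply, show lam ((s⁻¹ ^ k) ((s⁻¹ ^ l) ζ)) = lam ((s⁻¹ ^ l) ζ) from
      hk _ (hmapZ _ hζ)]
  have hPn : Per (2 ^ N) := by
    intro ζ hζ
    show lam ((s⁻¹ ^ 2 ^ N) ζ) = _
    rw [inv_pow, ← hz]
    congr 1
    conv_lhs => rw [← hzZ ζ hζ]
    simp
  have hexper : ∃ k, 0 < k ∧ Per k := ⟨2 ^ N, Nat.two_pow_pos N, hPn⟩
  set per := Nat.find hexper with hper
  obtain ⟨hper0, hperP⟩ := Nat.find_spec hexper
  have hpermul : ∀ k, Per (per * k) := by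
    intro k
    induction k with
    | zero => intro ζ _; rfl
    | succ k ih => rw [Nat.mul_succ]; exact ((hPadd _ _ ih).2 hperP)
  have hperdvd : per ∣ 2 ^ N := by
    refine Nat.dvd_of_mod_eq_zero ?_
    by_contra h0
    have h := (hPadd _ (2 ^ N % per) (hpermul (2 ^ N / per))).1 (by rw [Nat.div_add_mod]; exact hPn)
    exact absurd (Nat.find_min' hexper ⟨Nat.pos_of_ne_zero h0, h⟩) (not_le.2 (Nat.mod_lt _ hper0))
  obtain ⟨a₀, haN, hpa⟩ := (Nat.dvd_prime_pow Nat.prime_two).1 hperdvd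
  set b := N + 1 - a₀ with hb
  have hb0 : 0 < b := by omega
  have hN0ab : 2 ^ (N + 1) = per * 2 ^ b := by rw [hpa, ← pow_add]; congr 1; omega
  have hdist : ∀ k l, k < l → l < per → ∃ ζ ∈ Z, L k ζ ≠ L l ζ := by
    intro k l hkl hl
    by_contra hcon
    push Not at hcon
    refine absurd (Nat.find_min' hexper ⟨show 0 < l - k by omega, fun ζ hζ => ?_⟩)
      (show ¬ per ≤ l - k by omega)
    have h := hcon _ (hmapZ (s ^ k) hζ)
    have hcancel : (s⁻¹ ^ k) ((s ^ k) ζ) = ζ := by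
      rw [← MulAut.mul_apply, inv_pow, inv_mul_cancel]; rfl
    show lam ((s⁻¹ ^ (l - k)) ζ) = lam ζ
    have h' : lam ((s⁻¹ ^ k) ((s ^ k) ζ)) = lam ((s⁻¹ ^ l) ((s ^ k) ζ)) := h
    rw [show s⁻¹ ^ l = s⁻¹ ^ (l - k) * s⁻¹ ^ k by rw [← pow_add]; congr 1; omega, MulAut.mul_apply,
      hcancel] at h'
    exact h'.symm
  set τ := s ^ per with hτ
  have hzτ : z = τ ^ 2 ^ (b - 1) := by
    rw [hz, hτ, ← pow_mul, hpa, ← pow_add]
    congr 2
    omega
  have hτN : τ ^ 2 ^ b = 1 := by rw [hτ, ← pow_mul, ← hN0ab, hs]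
  have hlamτ : ∀ ζ ∈ Z, lam (τ ζ) = lam ζ := by
    intro ζ hζ
    have h := hperP _ (hmapZ τ hζ)
    rw [show L per (τ ζ) = lam ((s⁻¹ ^ per) (τ ζ)) from rfl, hτ, inv_pow, MulAut.inv_apply_self] at h
    exact h.symm
  -- the pairing
  have hφmul : ∀ x ∈ C, ∀ x' ∈ C, ∀ y ∈ C, lam ⁅x * x', y⁆ = lam ⁅x, y⁆ * lam ⁅x', y⁆ := by
    intro x hx x' hx' y hy
    have h := hclZ x' hx' y hy
    rw [commutator_mul_of_class_two (hZcomm _ h x hx) (hZcomm _ h _ (hclZ x hx y hy).1),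
      hlammul _ (hclZ x hx y hy) _ h]
  have hφinv : ∀ x ∈ C, ∀ y ∈ C, lam ⁅y, x⁆ * lam ⁅x, y⁆ = 1 := fun x hx y hy => by
    rw [← hlammul _ (hclZ y hy x hx) _ (hclZ x hx y hy), ← commutatorElement_inv, inv_mul_cancel, hlam1]
  let P : Pairing T K C Z t :=
    { φ := fun x y => lam ⁅x, y⁆
      hZC := inf_le_left
      hcomm := hclZ
      mul_left := hφmul
      mul_right := fun x hx y hy y' hy' => by
        have h1 := hφinv x hx (y * y') (mul_mem hy hy')
        rw [hφmul y hy y' hy' x hx] at h1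
        calc lam ⁅x, y * y'⁆ = (lam ⁅y, x⁆ * lam ⁅x, y⁆) * (lam ⁅y', x⁆ * lam ⁅x, y'⁆) * lam ⁅x, y * y'⁆ := by
              rw [hφinv x hx y hy, hφinv x hx y' hy', one_mul, one_mul]
          _ = (lam ⁅y, x⁆ * lam ⁅y', x⁆ * lam ⁅x, y * y'⁆) * (lam ⁅x, y⁆ * lam ⁅x, y'⁆) := by ring
          _ = _ := by rw [h1, one_mul]
      self := fun x _ => by rw [commutatorElement_self, hlam1]
      pow_eq := fun x hx y hy => by rw [← hlampow _ (hclZ x hx y hy), hct x hx y hy, hlam1]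
      zero := fun x hx y hy => by
        rw [commutatorElement_eq_one_iff_mul_comm.2 (hZcomm x hx y hy).eq, hlam1] }
  have hφ : ∀ x y, P.φ x y = lam ⁅x, y⁆ := fun _ _ => rfl
  have hstab : ∀ α : MulAut T, (∀ ζ ∈ Z, lam (α ζ) = lam ζ) → α ∈ P.stab := fun α h x hx y hy => by
    rw [hφ, hφ, ← map_commutatorElement, h _ (hclZ x hx y hy)]
  have hzstab : z ∈ P.stab := hstab z fun ζ hζ => by rw [hzZ ζ hζ]
  have hustab : u ∈ P.stab := hstab u fun ζ hζ => by rw [huZ ζ hζ]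
  have hvstab : v ∈ P.stab := hstab v fun ζ hζ => by rw [hvZ ζ hζ]
  have hτstab : τ ∈ P.stab := hstab τ hlamτ
  have hestab : e ∈ P.stab := by
    rw [he, commutatorElement_def]
    exact mul_mem (mul_mem (mul_mem hustab hvstab) (inv_mem hustab)) (inv_mem hvstab)
  set C1 := movedPart z C Z with hC1
  have hC1C : C1 ≤ C := movedPart_le P.hZC
  have hZC1 : Z ≤ C1 := le_sup_right
  obtain ⟨x₁, hx₁, hx₁e⟩ := P.moved_nontrivial ht2 hT hzz hzZ hzstab hr2 hrt hui hvj hustab hvstab he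
    heu hev her hze hzu hzv hc hd (c := c) (d := d) (by rw [hφ, ← hw₁, ← hfdef]; exact hlamf)
  have hτz : ∀ x, τ (z x) = z (τ x) := fun x => by
    rw [← MulAut.mul_apply, ← MulAut.mul_apply, hz, hτ, ← pow_add, ← pow_add, add_comm]
  have hC1map : ∀ α : MulAut T, (∀ x, α (z x) = z (α x)) → ∀ {x : T}, x ∈ C1 → α x ∈ C1 :=
    fun α hα x hx => movedPart_map hα (fun _ h => hmapZ α h) hx
  have hez : ∀ x, e (z x) = z (e x) := fun x => by
    rw [← MulAut.mul_apply, ← MulAut.mul_apply, hze.eq]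
  obtain ⟨x₂, y₂, hx₂, hy₂, hxy₂⟩ : ∃ x y, x ∈ C1 ∧ y ∈ C1 ∧ P.φ x y ≠ 1 := by
    by_contra hno
    push Not at hno
    have hmem : x₁⁻¹ * e x₁ ∈ C1 := mul_mem (inv_mem hx₁) (hC1map e hez hx₁)
    exact hx₁e (P.moved_rad ht2 hT hzz hzZ hzstab hmem fun y hy => hno _ _ hmem hy)
  -- an irreducible constituent
  let Wl : Submodule K W :=
    { carrier := {w | ∀ ζ ∈ Z, ρ ζ w = lam ζ • w}
      add_mem' := fun {w w'} h h' ζ hζ => by rw [map_add, h ζ hζ, h' ζ hζ, smul_add]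
      zero_mem' := fun ζ _ => by rw [map_zero, smul_zero]
      smul_mem' := fun k w h ζ hζ => by rw [map_smul, h ζ hζ, smul_comm] }
  have hXpow : ∀ (k : ℕ) (g : T), X ^ k * ρ g = ρ ((s ^ k) g) * X ^ k := by
    intro k
    induction k with
    | zero => intro g; simp
    | succ k ih =>
      intro g
      rw [pow_succ, mul_assoc, hconj, ← mul_assoc, ih, mul_assoc, pow_succ, MulAut.mul_apply]
  have hWlX : ∀ (k : ℕ), ∀ w ∈ Wl, ∀ ζ ∈ Z, ρ ζ ((X ^ k) w) = L k ζ • (X ^ k) w := by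
    intro k w hw ζ hζ
    have hcancel : (s ^ k) ((s⁻¹ ^ k) ζ) = ζ := by
      rw [← MulAut.mul_apply, inv_pow, mul_inv_cancel]; rfl
    have h := LinearMap.congr_fun (hXpow k ((s⁻¹ ^ k) ζ)) w
    rw [hcancel, Module.End.mul_apply, Module.End.mul_apply, hw _ (hmapZ _ hζ), map_smul] at h
    exact h.symm
  have hWlne : Wl ≠ ⊥ := fun h => hw₀0 <| by
    have : w₀ ∈ Wl := fun ζ hζ => hlam ζ hζ w₀ hw₀
    rwa [h, Submodule.mem_bot] at this
  obtain ⟨U, ⟨hU, hUWl, hUρ, hUX⟩, hUmin⟩ := wellFounded_lt.has_min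
    {U : Submodule K W | U ≠ ⊥ ∧ U ≤ Wl ∧ (∀ x ∈ C1, ∀ w ∈ U, ρ x w ∈ U) ∧ ∀ w ∈ U, (X ^ per) w ∈ U}
    ⟨Wl, hWlne, le_rfl, fun x hx w hw ζ hζ => by rw [hρcomm hζ x (hC1C hx), hw ζ hζ, map_smul],
      fun w hw ζ hζ => by rw [hWlX per w hw ζ hζ, hperP ζ hζ]⟩
  haveI : Nontrivial U := Submodule.nontrivial_iff_ne_bot.2 hU
  let a : C1 →* Module.End K U :=
    { toFun := fun x => (ρ (x : T)).restrict (fun w hw => hUρ x x.2 w hw)
      map_one' := LinearMap.ext fun w => Subtype.ext (by simp)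
      map_mul' := fun g g' => LinearMap.ext fun w => Subtype.ext (by simp) }
  let T' : Module.End K U := (X ^ per).restrict hUX
  have hTval : ∀ (k : ℕ) (w : U), (((T' ^ k) w : U) : W) = (X ^ (per * k)) (w : W) := by
    intro k
    induction k with
    | zero => intro w; simp
    | succ k ih =>
      intro w
      rw [pow_succ, Module.End.mul_apply, ih, Nat.mul_succ, pow_add, Module.End.mul_apply]
      rfl
  have hTN : T' ^ 2 ^ b = 1 := LinearMap.ext fun w => Subtype.ext (by rw [hTval, ← hN0ab, hX]; rfl)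
  have hTsum : ∑ k ∈ Finset.range (2 ^ b), T' ^ k = 0 := by
    refine LinearMap.ext fun w => Subtype.ext ?_
    set Sw : U := (∑ k ∈ Finset.range (2 ^ b), T' ^ k) w with hSw
    have hSwval : (Sw : W) = (∑ k ∈ Finset.range (2 ^ b), X ^ (per * k)) (w : W) := by
      rw [hSw, LinearMap.sum_apply, LinearMap.sum_apply, Submodule.coe_sum]
      exact Finset.sum_congr rfl fun k _ => hTval k w
    have hsplit : ∀ m : ℕ, ∑ k ∈ Finset.range (per * m), X ^ k =
        (∑ k ∈ Finset.range per, X ^ k) * ∑ l ∈ Finset.range m, X ^ (per * l) := by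
      intro m
      induction m with
      | zero => simp
      | succ m ih =>
        rw [Nat.mul_succ, Finset.sum_range_add, ih, Finset.sum_range_succ, mul_add, Finset.sum_mul]
        congr 1
        rw [Finset.sum_mul]
        exact Finset.sum_congr rfl fun k _ => by rw [← pow_add, add_comm]
    have h0 : ∑ k ∈ Finset.range per, (X ^ k) (Sw : W) = 0 := by
      rw [← LinearMap.sum_apply, hSwval, ← Module.End.mul_apply, ← hsplit, ← hN0ab, hsum,
        LinearMap.zero_apply]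
    rw [← Fin.sum_univ_eq_sum_range (fun k => (X ^ k) (Sw : W))] at h0
    have h := CfsgLib.HallHigman.weight_indep (K := K) (T := fun ζ : Z => ρ (ζ : T))
      (fun (k : Fin per) (ζ : Z) => L k ζ)
      (fun k l hkl => by
        rcases lt_or_gt_of_ne (Fin.val_ne_iff.2 hkl) with hlt | hlt
        · obtain ⟨ζ, hζ, hne⟩ := hdist k l hlt l.2
          exact ⟨⟨ζ, hζ⟩, hne⟩
        · obtain ⟨ζ, hζ, hne⟩ := hdist l k hlt k.2
          exact ⟨⟨ζ, hζ⟩, fun e => hne e.symm⟩)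
      Finset.univ (fun k => (X ^ (k : ℕ)) (Sw : W)) (fun k _ ζ => hWlX k Sw (hUWl Sw.2) ζ ζ.2) h0
      ⟨0, hper0⟩ (Finset.mem_univ _)
    simpa using h
  have haZ : ∀ x : C1, (x : T) ∈ Z → a x = lam x • (1 : Module.End K U) := fun x hx =>
    LinearMap.ext fun w => Subtype.ext (hUWl w.2 _ hx)
  obtain ⟨w₂, hw₂⟩ := exists_ne (0 : U)
  have hsinj : ∀ k l : K, k • (1 : Module.End K U) = l • 1 → k = l := fun k l h =>
    smul_left_injective K hw₂ (LinearMap.congr_fun h w₂)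
  obtain ⟨σ1, hσ1⟩ := CfsgLib.Solvable.exists_restrict τ C1 (fun x hx => hC1map τ hτz hx)
  have hTconj : ∀ x : C1, T' * a x = a (σ1 x) * T' := fun x => LinearMap.ext fun w => Subtype.ext (by
    show (X ^ per) (ρ (x : T) w) = ρ ((σ1 x : C1) : T) ((X ^ per) w)
    rw [hσ1, ← Module.End.mul_apply, hXpow, Module.End.mul_apply])
  have hpos : 0 < 2 ^ b := Nat.two_pow_pos b
  let γ : (Module.End K U)ˣ := ⟨T', T' ^ (2 ^ b - 1),
    by rw [← pow_succ', Nat.sub_add_cancel hpos, hTN],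
    by rw [← pow_succ, Nat.sub_add_cancel hpos, hTN]⟩
  have hγ : ∀ x : C1, γ * a.toHomUnits x * γ⁻¹ = a.toHomUnits (σ1 x) := fun x => by
    rw [mul_inv_eq_iff_eq_mul]
    exact Units.ext (hTconj x)
  have hγpow : ∀ (k : ℕ) (x : C1), γ ^ k * a.toHomUnits x * (γ ^ k)⁻¹ = a.toHomUnits ((σ1 ^ k) x) := by
    intro k
    induction k with
    | zero => intro x; simp
    | succ k ih =>
      intro x
      rw [pow_succ σ1, MulAut.mul_apply, ← ih, ← hγ, pow_succ γ]
      group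
  have hkerσ : ∀ x ∈ a.ker, σ1 x ∈ a.ker := fun x hx => by
    have h := hγ x
    rw [show a.toHomUnits x = 1 from Units.ext hx, mul_one, mul_inv_cancel] at h
    exact (congrArg Units.val h).symm
  have hσ1z : ∀ x : C1, (((σ1 ^ 2 ^ (b - 1)) x : C1) : T) = z x := fun x => by
    rw [CfsgLib.Solvable.restrict_pow hσ1, hzτ]
  have hσ1N : σ1 ^ 2 ^ b = 1 :=
    MulEquiv.ext fun x => Subtype.ext (by rw [CfsgLib.Solvable.restrict_pow hσ1, hτN]; rfl)
  have hncop : ∀ M : Subgroup C1, ¬ 2 ∣ Nat.card M := by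
    intro M hd
    obtain ⟨k, hk⟩ := ((hT.to_subgroup C1).to_subgroup M).exists_card_eq
    exact ht2 ((Nat.prime_dvd_prime_iff_eq Nat.prime_two ht.out).1 (Nat.prime_two.dvd_of_dvd_pow (hk ▸ hd))).symm
  have hlift : ∀ M : Subgroup C1, (∀ y ∈ M, σ1 y ∈ M) → ∀ x : C1,
      x⁻¹ * (σ1 ^ 2 ^ (b - 1)) x ∈ M → ∃ m ∈ M, ((x * m : C1) : T) ∈ Z := by
    intro M hM x hx
    obtain ⟨m, hm, hfix⟩ := exists_fixed_mem_coset (p := 2) (k := 1) (σ1 ^ 2 ^ (b - 1))
      (by rw [pow_one, ← pow_mul, ← pow_succ, Nat.sub_add_cancel hb0, hσ1N]) M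
      (fun y hy => CfsgLib.Solvable.pow_mem_of_invariant hM _ hy) (hncop M) hx
    refine ⟨m, hm, P.moved_fixed ht2 hT hzz hzZ (x * m).2 ?_⟩
    rw [← hσ1z, hfix]
  have hscal_of_fix : ∀ x : C1, a.toHomUnits ((σ1 ^ 2 ^ (b - 1)) x) = a.toHomUnits x →
      ∃ k : K, a x = k • (1 : Module.End K U) := by
    intro x hx
    have hx' : a ((σ1 ^ 2 ^ (b - 1)) x) = a x := congrArg Units.val hx
    obtain ⟨m, hm, hfix⟩ := hlift a.ker hkerσ x
      (by rw [MonoidHom.mem_ker, map_mul, hx', ← map_mul, inv_mul_cancel, map_one])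
    refine ⟨lam ((x * m : C1) : T), ?_⟩
    rw [← haZ _ hfix, map_mul, MonoidHom.mem_ker.1 hm, mul_one]
  have hacomm : ∀ x y : C1, a x * a y = lam ⁅(x : T), (y : T)⁆ • (a y * a x) := by
    intro x y
    rw [← map_mul, ← map_mul, show x * y = ⁅x, y⁆ * (y * x) by simp only [commutatorElement_def]; group,
      map_mul a ⁅x, y⁆, haZ ⁅x, y⁆ (hclZ _ (hC1C x.2) _ (hC1C y.2)), smul_mul_assoc, one_mul]
    rfl
  set Rad1 := P.rad.subgroupOf C1 with hRad1
  have hRad1σ : ∀ y ∈ Rad1, σ1 y ∈ Rad1 := fun y hy => by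
    rw [Subgroup.mem_subgroupOf, hσ1]
    exact P.rad_map hτstab hy
  have hradcomm : ∀ x y : C1, x ∈ Rad1 → Commute (a x) (a y) := by
    intro x y hx
    show a x * a y = a y * a x
    rw [hacomm, show lam ⁅(x : T), (y : T)⁆ = 1 from (Subgroup.mem_subgroupOf.1 hx).2 _ (hC1C y.2), one_smul]
  have hradiff : ∀ x : C1, (∀ y, a x * a y = a y * a x) → x ∈ Rad1 := by
    intro x hx
    refine Subgroup.mem_subgroupOf.2 (P.moved_rad ht2 hT hzz hzZ hzstab x.2 fun y hy => ?_)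
    have h := hacomm x ⟨y, hy⟩
    rw [hx] at h
    have hu' : IsUnit (a ⟨y, hy⟩ * a x) := by
      rw [← map_mul]; exact ⟨a.toHomUnits _, rfl⟩
    obtain ⟨un, hun⟩ := hu'
    rw [← hun] at h
    have h2 := congrArg (fun g => g * ((un⁻¹ : (Module.End K U)ˣ) : Module.End K U)) h
    simp only [Units.mul_inv, smul_mul_assoc] at h2
    rw [hφ]
    exact (hsinj _ _ ((one_smul K _).trans h2)).symm
  haveI : Finite (Rad1.map a.toHomUnits) :=
    Finite.of_surjective (fun y : Rad1 => (⟨_, y, y.2, rfl⟩ : Rad1.map a.toHomUnits))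
      (by rintro ⟨_, y, hy, rfl⟩; exact ⟨⟨y, hy⟩, rfl⟩)
  have hall := CfsgLib.FourPrimes.avg_lemma (Rad1.map a.toHomUnits)
    (by rintro _ ⟨x, hx, rfl⟩ _ ⟨y, -, rfl⟩; exact Units.ext (hradcomm x y hx).eq) γ
    (by rintro _ ⟨x, hx, rfl⟩; exact ⟨σ1 x, hRad1σ x hx, (hγ x).symm⟩) hpos hTsum
    (by
      rintro k hk hkb _ ⟨x, hx, rfl⟩ e'
      rw [show b = b - 1 + 1 by omega] at hkb
      obtain ⟨l, hl⟩ := exists_pow_eq_pow Nat.prime_two hk hkb
      have hpow : ∀ m : ℕ, a.toHomUnits ((σ1 ^ (k * m)) x) = a.toHomUnits x := by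
        intro m
        induction m with
        | zero => rfl
        | succ m ih =>
          rw [← hγpow] at ih ⊢
          rw [Nat.mul_succ, add_comm, pow_add, mul_inv_rev,
            show γ ^ k * γ ^ (k * m) * a.toHomUnits x * ((γ ^ (k * m))⁻¹ * (γ ^ k)⁻¹) =
              γ ^ k * (γ ^ (k * m) * a.toHomUnits x * (γ ^ (k * m))⁻¹) * (γ ^ k)⁻¹ by group, ih, e']
      have h := hpow l
      rw [pow_eq_pow_mod _ hσ1N, show b = b - 1 + 1 by omega, hl] at h
      obtain ⟨q, hq⟩ := hscal_of_fix x h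
      refine mul_inv_eq_iff_eq_mul.2 (Units.ext ?_)
      show (γ : Module.End K U) * a x = a x * (γ : Module.End K U)
      rw [hq, smul_mul_assoc, one_mul, mul_smul_comm, mul_one])
    (fun y hy => by
      refine cast_mul_eq_zero (K := K) (c := Nat.card (Rad1.map a.toHomUnits)) ?_ hy
      exact hcardK ((Subgroup.card_dvd_of_surjective (a.toHomUnits.subgroupMap Rad1)
        (a.toHomUnits.subgroupMap_surjective Rad1)).trans ((Subgroup.card_subgroup_dvd_card Rad1).trans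
          (Subgroup.card_subgroup_dvd_card C1))))
  have hradscal : ∀ x ∈ Rad1, ∃ k : K, a x = k • (1 : Module.End K U) := by
    intro x hx
    refine hscal_of_fix x ?_
    rw [← hγpow]
    have h := hall _ ⟨x, hx, rfl⟩
    generalize 2 ^ (b - 1) = m
    induction m with
    | zero => simp
    | succ m ih =>
      rw [pow_succ, mul_inv_rev,
        show γ ^ m * γ * a.toHomUnits x * (γ⁻¹ * (γ ^ m)⁻¹) =
          γ ^ m * (γ * a.toHomUnits x * γ⁻¹) * (γ ^ m)⁻¹ by group, h, ih]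
  -- the quotient
  let q := QuotientGroup.mk' a.ker
  have hq : Function.Surjective q := QuotientGroup.mk'_surjective _
  let a' : C1 ⧸ a.ker →* Module.End K U := QuotientGroup.lift a.ker a le_rfl
  have ha'inj : Function.Injective a' := by
    intro x y hxy
    obtain ⟨g, rfl⟩ := hq x
    obtain ⟨g', rfl⟩ := hq y
    refine QuotientGroup.eq.2 ?_
    have h1 : a g = a g' := hxy
    rw [MonoidHom.mem_ker, map_mul, ← h1, ← map_mul, inv_mul_cancel, map_one]
  have hcenter : (Subgroup.center (C1 ⧸ a.ker)).comap q = Rad1 := by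
    ext x
    rw [Subgroup.mem_comap, Subgroup.mem_center_iff]
    constructor
    · intro h
      refine hradiff x fun y => ?_
      have := congrArg a' (h (q y))
      rw [map_mul, map_mul] at this
      exact this.symm
    · intro h y
      obtain ⟨g, rfl⟩ := hq y
      refine ha'inj ?_
      rw [map_mul, map_mul]
      exact (hradcomm x g h).symm
  have hcentC1 : ∀ x y : C1, q ⁅x, y⁆ ∈ Subgroup.center (C1 ⧸ a.ker) := fun x y => by
    have : ⁅x, y⁆ ∈ (Subgroup.center (C1 ⧸ a.ker)).comap q := by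
      rw [hcenter]
      exact Subgroup.mem_subgroupOf.2 (P.le_rad (hclZ _ (hC1C x.2) _ (hC1C y.2)))
    exact this
  haveI : Fintype (C1 ⧸ a.ker) := Fintype.ofFinite _
  have S : CfsgLib.Twisted.Setting a' := by
    refine ⟨?_, ?_, ?_, ?_⟩
    · intro x y
      obtain ⟨g, rfl⟩ := hq x
      obtain ⟨g', rfl⟩ := hq y
      rw [← map_commutatorElement]
      exact hcentC1 g g'
    · intro x hx
      obtain ⟨g, rfl⟩ := hq x
      exact hradscal g (hcenter.le hx)
    · intro x hx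
      by_contra hcon
      push Not at hcon
      refine hx (Subgroup.mem_center_iff.2 fun y => commutatorElement_eq_one_iff_mul_comm.1 (ha'inj ?_))
      rw [hcon, map_one]
    · rw [← Nat.card_eq_fintype_card]
      exact hcardK ((Subgroup.card_quotient_dvd_card _).trans (Subgroup.card_subgroup_dvd_card C1))
  have hQt : Nat.card (commutator (C1 ⧸ a.ker)) = t := by
    have hprop : ∀ g ∈ commutator (C1 ⧸ a.ker), g ∈ Subgroup.center (C1 ⧸ a.ker) ∧ g ^ t = 1 := by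
      intro g hg
      rw [commutator_def, Subgroup.commutator_def] at hg
      induction hg using Subgroup.closure_induction with
      | mem y hy =>
        obtain ⟨g₁, -, g₂, -, rfl⟩ := hy
        obtain ⟨y₁, rfl⟩ := hq g₁
        obtain ⟨y₂, rfl⟩ := hq g₂
        refine ⟨S.cls _ _, ?_⟩
        rw [← map_commutatorElement, ← map_pow,
          show ⁅y₁, y₂⁆ ^ t = 1 from Subtype.ext (hct _ (hC1C y₁.2) _ (hC1C y₂.2)), map_one]
      | one => exact ⟨one_mem _, one_pow _⟩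
      | mul y y' _ _ h1 h2 =>
        refine ⟨mul_mem h1.1 h2.1, ?_⟩
        rw [Commute.mul_pow (Subgroup.mem_center_iff.1 h1.1 y').symm, h1.2, h2.2, one_mul]
      | inv y _ h1 => exact ⟨inv_mem h1.1, by rw [inv_pow, h1.2, inv_one]⟩
    have hsc : ∀ g : commutator (C1 ⧸ a.ker), ∃ k : K, a' (g : C1 ⧸ a.ker) = k • 1 :=
      fun g => S.scalar _ (hprop g g.2).1
    choose f0 hf0 using hsc
    let fh : commutator (C1 ⧸ a.ker) →* K :=
      { toFun := f0
        map_one' := hsinj _ _ (by rw [← hf0, one_smul]; exact map_one a')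
        map_mul' := fun g g' => hsinj _ _ (by
          rw [← hf0, Subgroup.coe_mul, map_mul, hf0, hf0, smul_mul_smul_comm, one_mul]) }
    have hfh : Function.Injective fh := fun g g' h => Subtype.ext (ha'inj (by
      rw [hf0, hf0]; exact congrArg (· • (1 : Module.End K U)) h))
    haveI : IsCyclic (commutator (C1 ⧸ a.ker)) := isCyclic_of_subgroup_isDomain fh hfh
    have h1 : Monoid.exponent (commutator (C1 ⧸ a.ker)) ∣ t :=
      Monoid.exponent_dvd_of_forall_pow_eq_one fun g => Subtype.ext (hprop g g.2).2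
    rw [IsCyclic.exponent_eq_card] at h1
    refine (ht.out.eq_one_or_self_of_dvd _ h1).resolve_left fun h => ?_
    rw [Subgroup.card_eq_one] at h
    have hmem : q ⁅(⟨x₂, hx₂⟩ : C1), ⟨y₂, hy₂⟩⁆ ∈ commutator (C1 ⧸ a.ker) := by
      rw [map_commutatorElement]
      exact Subgroup.commutator_mem_commutator (Subgroup.mem_top _) (Subgroup.mem_top _)
    rw [h, Subgroup.mem_bot] at hmem
    refine hxy₂ (hsinj _ _ ?_)
    have h2 := congrArg a' hmem
    rw [map_one] at h2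
    exact (haZ ⁅(⟨x₂, hx₂⟩ : C1), ⟨y₂, hy₂⟩⁆ (hclZ _ (hC1C hx₂) _ (hC1C hy₂))).symm.trans
      (h2.trans (one_smul K _).symm)
  have hmapker : a.ker.map (σ1 : C1 →* C1) = a.ker := by
    refine Subgroup.eq_of_le_of_card_ge ?_ (le_of_eq (Nat.card_congr
      (Subgroup.equivMapOfInjective a.ker (σ1 : C1 →* C1) σ1.injective).toEquiv))
    rintro _ ⟨x, hx, rfl⟩
    exact hkerσ x hx
  let σq : MulAut (C1 ⧸ a.ker) := QuotientGroup.congr _ _ σ1 hmapker
  have hσqpow : ∀ (k : ℕ) (x : C1), (σq ^ k) (q x) = q ((σ1 ^ k) x) := by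
    intro k
    induction k with
    | zero => intro x; rfl
    | succ k ih => intro x; rw [pow_succ, MulAut.mul_apply, pow_succ, MulAut.mul_apply]; exact ih (σ1 x)
  obtain ⟨htb, hb2, hcard⟩ := two_power_bound S ht2 hQt T' σq h2K
    (MulEquiv.ext fun x => by obtain ⟨y, rfl⟩ := hq x; rw [hσqpow, hσ1N]; rfl)
    (fun k hk hkb x hx => by
      obtain ⟨y, rfl⟩ := hq x
      rw [hσqpow, ← map_inv, ← map_mul] at hx
      have hy : y⁻¹ * (σ1 ^ k) y ∈ Rad1 := hcenter.le hx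
      rw [show b = b - 1 + 1 by omega] at hkb
      obtain ⟨l, hl⟩ := exists_pow_eq_pow Nat.prime_two hk hkb
      have h := iterate_mem (σ1 ^ k) Rad1 (fun y hy => CfsgLib.Solvable.pow_mem_of_invariant hRad1σ k hy) hy l
      rw [← pow_mul, pow_eq_pow_mod _ hσ1N, show b = b - 1 + 1 by omega, hl] at h
      obtain ⟨m, hm, hfix⟩ := hlift Rad1 hRad1σ y h
      refine hcenter.ge ?_
      have hmem : y * m ∈ Rad1 := Subgroup.mem_subgroupOf.2 (P.le_rad hfix)
      simpa using mul_mem hmem (inv_mem hm))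
    hTN (fun x => by obtain ⟨y, rfl⟩ := hq x; exact hTconj y) hTsum
    (fun V hVa hVT => by
      by_cases hV : V = ⊥
      · exact Or.inl hV
      refine Or.inr ?_
      have hle : V.map U.subtype ≤ U := Submodule.map_subtype_le _ _
      have heq : V.map U.subtype = U := by
        refine hle.eq_of_not_lt (hUmin _ ⟨?_, hle.trans hUWl, ?_, ?_⟩)
        · exact fun h => hV (Submodule.map_injective_of_injective U.subtype_injective
            (h.trans (Submodule.map_bot _).symm))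
        · rintro x hx _ ⟨w, hw, rfl⟩
          exact ⟨a ⟨x, hx⟩ w, hVa (q ⟨x, hx⟩) w hw, rfl⟩
        · rintro _ ⟨w, hw, rfl⟩
          exact ⟨T' w, hVT w hw, rfl⟩
      refine Submodule.eq_top_iff'.2 fun w => ?_
      obtain ⟨w', hw', he'⟩ := (heq.ge w.2 : (w : W) ∈ V.map U.subtype)
      rwa [← Subtype.ext (a1 := w') (a2 := w) he'])
  -- the plane
  haveI : Rad1.Normal := ⟨fun x hx g => Subgroup.mem_subgroupOf.2
    (P.conj_rad (Subgroup.mem_subgroupOf.1 hx) (hC1C g.2))⟩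
  have hidx : Nat.card (C1 ⧸ Rad1) = t ^ 2 := by
    rw [← Subgroup.index_eq_card, ← hcenter, Subgroup.index_comap_of_surjective _ hq, Subgroup.index_eq_card,
      hcard]
  letI : CommGroup (C1 ⧸ Rad1) := { (inferInstance : Group (C1 ⧸ Rad1)) with
    mul_comm := fun x y => by
      obtain ⟨g, rfl⟩ := QuotientGroup.mk_surjective x
      obtain ⟨g', rfl⟩ := QuotientGroup.mk_surjective y
      rw [← commutatorElement_eq_one_iff_mul_comm]
      exact (QuotientGroup.eq_one_iff _).2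
        (Subgroup.mem_subgroupOf.2 (P.le_rad (hclZ _ (hC1C g.2) _ (hC1C g'.2)))) }
  have hexp : ∀ x : C1 ⧸ Rad1, x ^ t = 1 := fun x => by
    obtain ⟨g, rfl⟩ := QuotientGroup.mk_surjective x
    refine (QuotientGroup.eq_one_iff _).2 (Subgroup.mem_subgroupOf.2 ?_)
    rw [SubmonoidClass.coe_pow]
    exact ⟨pow_mem (hC1C g.2) t, fun y hy => by rw [P.pow_left (hC1C g.2) hy, P.pow_eq _ (hC1C g.2) y hy]⟩
  letI : Module (ZMod t) (Additive (C1 ⧸ Rad1)) := AddCommGroup.zmodModule (n := t)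
    (fun y => Additive.toMul.injective (hexp y.toMul))
  let 𝒮 : Subgroup (MulAut T) := P.stab ⊓ Subgroup.centralizer {z}
  have h𝒮z : ∀ α : 𝒮, ∀ x, (α : MulAut T) (z x) = z ((α : MulAut T) x) := fun α x => by
    rw [← MulAut.mul_apply, ← MulAut.mul_apply, Subgroup.mem_centralizer_singleton_iff.1 α.2.2]
  let res : ∀ α : 𝒮, C1 →* C1 := fun α =>
    { toFun := fun x => ⟨(α : MulAut T) x, hC1map _ (h𝒮z α) x.2⟩
      map_one' := Subtype.ext (map_one (α : MulAut T))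
      map_mul' := fun x y => Subtype.ext (map_mul (α : MulAut T) _ _) }
  let ind : 𝒮 →* Module.End (ZMod t) (Additive (C1 ⧸ Rad1)) :=
    { toFun := fun α => (MonoidHom.toAdditive (QuotientGroup.map Rad1 Rad1 (res α)
        (fun _ hx => Subgroup.mem_comap.2 (Subgroup.mem_subgroupOf.2 (P.rad_map α.2.1 (Subgroup.mem_subgroupOf.1 hx)))))).toZModLinearMap t
      map_one' := LinearMap.ext fun y => by
        obtain ⟨x, hx⟩ := QuotientGroup.mk_surjective y.toMul
        obtain rfl : Additive.ofMul (x : C1 ⧸ Rad1) = y := congrArg Additive.ofMul hx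
        rfl
      map_mul' := fun α β => LinearMap.ext fun y => by
        obtain ⟨x, hx⟩ := QuotientGroup.mk_surjective y.toMul
        obtain rfl : Additive.ofMul (x : C1 ⧸ Rad1) = y := congrArg Additive.ofMul hx
        rfl }
  have hindapp : ∀ (α : 𝒮) (x : C1), ind α (Additive.ofMul (x : C1 ⧸ Rad1)) =
      Additive.ofMul ((res α x : C1) : C1 ⧸ Rad1) := fun _ _ => rfl
  have hτmem : τ ∈ 𝒮 := ⟨hτstab, Subgroup.mem_centralizer_singleton_iff.2 (by
    rw [hz, hτ, ← pow_add, ← pow_add, add_comm])⟩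
  have hemem : e ∈ 𝒮 := ⟨hestab, Subgroup.mem_centralizer_singleton_iff.2 hze.eq.symm⟩
  let τS : 𝒮 := ⟨τ, hτmem⟩
  let eS : 𝒮 := ⟨e, hemem⟩
  refine plane_false (V := Additive (C1 ⧸ Rad1)) hr2 hrt htb hb2 hidx (ind eS) (ind (τS⁻¹ * eS * τS))
    (ind τS) ?_ ?_ ?_ ?_ ?_
  · rw [← map_pow, show eS ^ r = 1 from Subtype.ext her, map_one]
  · intro k hk
    haveI : Nontrivial (Additive (C1 ⧸ Rad1)) := Finite.one_lt_card_iff_nontrivial.1 (by
      rw [show Nat.card (Additive (C1 ⧸ Rad1)) = t ^ 2 from hidx]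
      exact Nat.one_lt_pow two_ne_zero ht.out.one_lt)
    have hEr : ind eS ^ r = 1 := by rw [← map_pow, show eS ^ r = 1 from Subtype.ext her, map_one]
    have hxn : ∀ x : C1, P.Cg ((x : T) ^ k.val) (e x) := by
      intro x
      have h := LinearMap.congr_fun hk (Additive.ofMul (x : C1 ⧸ Rad1))
      rw [hindapp, LinearMap.smul_apply, Module.End.one_apply, ← ZMod.natCast_zmod_val k,
        Nat.cast_smul_eq_nsmul, ← ofMul_pow] at h
      have h' := Additive.ofMul.injective h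
      rw [← QuotientGroup.mk_pow, eq_comm, QuotientGroup.eq, Subgroup.mem_subgroupOf] at h'
      simpa [Pairing.Cg, res, eS] using h'
    have hCgφ : ∀ {x x' y : T}, x ∈ C → x' ∈ C → y ∈ C → P.Cg x x' → P.φ x' y = P.φ x y := by
      intro x x' y hx hx' hy h
      rw [show x' = x * (x⁻¹ * x') by group, P.mul_left x hx _ h.1 y hy, h.2 y hy, mul_one]
    have hkk : k * k = 1 := by
      have hxC := hC1C hx₂
      have hyC := hC1C hy₂
      have hexC := hmapC e hxC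
      have heyC := hmapC e hyC
      have h1 : P.φ (e x₂) (e y₂) = P.φ x₂ y₂ ^ (k.val * k.val) := by
        rw [hCgφ (pow_mem hxC _) hexC heyC (hxn ⟨x₂, hx₂⟩), P.pow_left hxC heyC, P.symm heyC hxC,
          hCgφ (pow_mem hyC _) heyC hxC (hxn ⟨y₂, hy₂⟩), P.pow_left hyC hxC, P.symm hxC hyC]
        simp only [inv_pow, inv_inv]
        rw [← pow_mul]
      rw [hestab _ hxC _ hyC] at h1
      have hn0 : k.val * k.val ≠ 0 := fun h0 => hxy₂ (by rw [h0, pow_zero] at h1; exact h1)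
      obtain ⟨m, hm⟩ : ∃ m, k.val * k.val = m + 1 := ⟨k.val * k.val - 1, by omega⟩
      rw [hm, pow_succ] at h1
      have h2 : P.φ x₂ y₂ ^ m = 1 := (mul_eq_right₀ (P.ne_zero hxC hyC)).1 h1.symm
      have h3 : t ∣ m := by
        rw [← orderOf_eq_prime (P.pow_eq _ hxC _ hyC) hxy₂]
        exact orderOf_dvd_of_pow_eq_one h2
      have h4 := congrArg (Nat.cast : ℕ → ZMod t) hm
      rw [Nat.cast_mul, ZMod.natCast_zmod_val, Nat.cast_add, (ZMod.natCast_eq_zero_iff m t).2 h3, zero_add,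
        Nat.cast_one] at h4
      exact h4
    rcases mul_self_eq_one_iff.1 hkk with rfl | rfl
    · rw [one_smul] at hk
      have h := LinearMap.congr_fun hk (Additive.ofMul ((⟨x₁, hx₁⟩ : C1) : C1 ⧸ Rad1))
      rw [hindapp, Module.End.one_apply] at h
      have h' := Additive.ofMul.injective h
      rw [eq_comm, QuotientGroup.eq, Subgroup.mem_subgroupOf] at h'
      exact hx₁e h'
    · have hodd : Odd r := hr.out.odd_of_ne_two hr2
      rw [hk, smul_pow, one_pow, hodd.neg_one_pow, neg_smul, one_smul] at hEr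
      obtain ⟨y, hy⟩ := exists_ne (0 : Additive (C1 ⧸ Rad1))
      have h := LinearMap.congr_fun hEr y
      rw [LinearMap.neg_apply, Module.End.one_apply, neg_eq_iff_add_eq_zero, ← two_smul (ZMod t),
        smul_eq_zero, or_iff_left hy] at h
      have h2 : t ∣ 2 := (ZMod.natCast_eq_zero_iff 2 t).1 (by exact_mod_cast h)
      exact ht2 ((Nat.prime_dvd_prime_iff_eq ht.out Nat.prime_two).1 h2)
  · rw [← map_pow]
    refine LinearMap.ext fun y => ?_
    obtain ⟨x, hx⟩ := QuotientGroup.mk_surjective y.toMul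
    obtain rfl : Additive.ofMul (x : C1 ⧸ Rad1) = y := congrArg Additive.ofMul hx
    rw [hindapp, LinearMap.neg_apply, Module.End.one_apply, ← ofMul_inv, ← QuotientGroup.mk_inv]
    refine congrArg Additive.ofMul (QuotientGroup.eq.2 (Subgroup.mem_subgroupOf.2 ?_))
    have hzx : (((τS ^ 2 ^ (b - 1) : 𝒮) : MulAut T)) (x : T) = z x := by
      rw [SubmonoidClass.coe_pow, hzτ]
    show ((((τS ^ 2 ^ (b - 1) : 𝒮) : MulAut T)) (x : T))⁻¹ * (x : T)⁻¹ ∈ P.rad
    rw [hzx]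
    have h := inv_mem (P.conj_rad (P.le_rad (P.moved_inverted hzz hzZ x.2)) (hC1C x.2))
    simpa [mul_assoc] using h
  · rw [← map_mul, ← map_mul]
    congr 1
    group
  · refine (Commute.map ?_ ind)
    refine Subtype.ext ?_
    show e * (τ⁻¹ * e * τ) = τ⁻¹ * e * τ * e
    rw [hτ]
    exact (heconj per).eq

end CfsgLib.ShultGross
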