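import Cfsg.Agent.Lib.ShultGross.Key
import Mathlib

/-!
The involutory power of a fixed point free automorphism of two-power order: abelian groups, and
inverted elements of a minimal moved group.
-/

set_option autoImplicit false
set_option linter.style.haveILetI false
open scoped commutatorElement

namespace CfsgLib.ShultGross

theorem exists_sq_pow {G : Type*} [Group G] {t : ℕ} [ht : Fact t.Prime] (ht2 : t ≠ 2)
    (hG : IsPGroup t G) (x : G) : ∃ k : ℕ, (x ^ 2) ^ k = x := by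
  obtain ⟨i, hi⟩ := hG x
  exact exists_pow_eq_self_of_coprime (Nat.Coprime.coprime_dvd_right (orderOf_dvd_of_pow_eq_one hi)
    (((Nat.coprime_primes Nat.prime_two ht.out).2 (Ne.symm ht2)).pow_right i))

theorem eq_one_of_sq {G : Type*} [Group G] {t : ℕ} [Fact t.Prime] (ht2 : t ≠ 2)
    (hG : IsPGroup t G) {x : G} (hx : x ^ 2 = 1) : x = 1 := by
  obtain ⟨k, hk⟩ := exists_sq_pow ht2 hG x
  rw [← hk, hx, one_pow]

theorem two_power_z_commute {A : Type*} [Group A] (σ : MulAut A) (N : ℕ) (u : A) :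
    σ ((σ ^ 2 ^ N) u) = (σ ^ 2 ^ N) (σ u) := by
  rw [← MulAut.mul_apply, ← MulAut.mul_apply, ← pow_succ', ← pow_succ]

/-- On an abelian group with a module, the involutory power acts trivially on the image. -/
theorem abelian_fixed {N t : ℕ} [ht : Fact t.Prime] (ht2 : t ≠ 2) {A : Type*} [Group A] [Finite A]
    (hab : ∀ a b : A, a * b = b * a) (hA : IsPGroup t A) (σ : MulAut A) (hσ : σ ^ 2 ^ (N + 1) = 1)
    {K : Type*} [Field K] (htK : (t : K) ≠ 0) {W : Type*} [AddCommGroup W] [Module K W]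
    (ρ : A →* Module.End K W) (X : Module.End K W) (hconj : ∀ u, X * ρ u = ρ (σ u) * X)
    (hX : X ^ 2 ^ (N + 1) = 1) (hsum : ∑ i ∈ Finset.range (2 ^ (N + 1)), X ^ i = 0) :
    ∀ u, ρ ((σ ^ 2 ^ N) u) = ρ u := by
  classical
  set z := σ ^ 2 ^ N with hz
  have hzz : ∀ u, z (z u) = u := fun u => by
    rw [← MulAut.mul_apply, hz, ← pow_add, ← two_mul, ← pow_succ', hσ]; rfl
  set D := Subgroup.closure (Set.range fun v : A => v⁻¹ * z v)
  have hDinv : ∀ d ∈ D, z d = d⁻¹ := by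
    intro d hd
    induction hd using Subgroup.closure_induction with
    | mem x hx => obtain ⟨v, rfl⟩ := hx; simp [hzz]
    | one => simp
    | mul x y _ _ h1 h2 => rw [map_mul, h1, h2, mul_inv_rev, hab]
    | inv x _ h1 => rw [map_inv, h1]
  have hDσ : ∀ d ∈ D, σ d ∈ D := by
    have h : D ≤ D.comap σ.toMonoidHom := by
      rw [Subgroup.closure_le]
      rintro _ ⟨v, rfl⟩
      exact Subgroup.subset_closure ⟨σ v, by simp [hz, two_power_z_commute]⟩
    exact fun d hd => h hd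
  have hpos : 0 < 2 ^ (N + 1) := Nat.two_pow_pos _
  let γ : (Module.End K W)ˣ :=
    ⟨X, X ^ (2 ^ (N + 1) - 1), by rw [← pow_succ', Nat.sub_add_cancel hpos, hX],
      by rw [← pow_succ, Nat.sub_add_cancel hpos, hX]⟩
  have hγ : ∀ u, γ * ρ.toHomUnits u * γ⁻¹ = ρ.toHomUnits (σ u) := fun u => by
    rw [mul_inv_eq_iff_eq_mul]
    exact Units.ext (hconj u)
  have hγpow : ∀ (i : ℕ) (u : A), γ ^ i * ρ.toHomUnits u * (γ ^ i)⁻¹ = ρ.toHomUnits ((σ ^ i) u) := by
    intro i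
    induction i with
    | zero => intro u; simp
    | succ i ih =>
      intro u
      rw [pow_succ σ, MulAut.mul_apply, ← ih, ← hγ, pow_succ γ]
      group
  have hkill : ∀ d ∈ D, ρ.toHomUnits (z d) = ρ.toHomUnits d → ρ.toHomUnits d = 1 := by
    intro d hd h
    rw [hDinv d hd, map_inv, inv_eq_iff_mul_eq_one, ← map_mul, ← pow_two] at h
    obtain ⟨k, hk⟩ := exists_sq_pow ht2 hA d
    rw [← hk, map_pow, h, one_pow]
  haveI : Finite (D.map ρ.toHomUnits) :=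
    Finite.of_surjective (fun d : D => (⟨_, d, d.2, rfl⟩ : D.map ρ.toHomUnits))
      (by rintro ⟨_, d, hd, rfl⟩; exact ⟨⟨d, hd⟩, rfl⟩)
  obtain ⟨j, hj⟩ := (hA.to_subgroup D).exists_card_eq
  have hall := CfsgLib.FourPrimes.avg_lemma (D.map ρ.toHomUnits)
    (by rintro _ ⟨a, -, rfl⟩ _ ⟨b, -, rfl⟩; rw [← map_mul, ← map_mul, hab]) γ
    (by rintro _ ⟨a, ha, rfl⟩; exact ⟨σ a, hDσ a ha, (hγ a).symm⟩) hpos hsum
    (by
      rintro i hi hiN _ ⟨a, ha, rfl⟩ e
      obtain ⟨k, hk⟩ := exists_pow_eq_pow Nat.prime_two hi hiN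
      have hpow : ∀ m : ℕ, ρ.toHomUnits ((σ ^ (i * m)) a) = ρ.toHomUnits a := by
        intro m
        induction m with
        | zero => rfl
        | succ m ih => rw [← hγpow, Nat.mul_succ, add_comm, pow_add]; rw [← hγpow] at ih; rw [mul_inv_rev,
            show γ ^ i * γ ^ (i * m) * ρ.toHomUnits a * ((γ ^ (i * m))⁻¹ * (γ ^ i)⁻¹) =
              γ ^ i * (γ ^ (i * m) * ρ.toHomUnits a * (γ ^ (i * m))⁻¹) * (γ ^ i)⁻¹ by group, ih, e]
      have h := hpow k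
      rw [pow_eq_pow_mod _ hσ, hk] at h
      rw [hkill a ha h]
      simp)
    (fun x hx => by
      refine cast_mul_eq_zero (K := K) (c := Nat.card (D.map ρ.toHomUnits)) ?_ hx
      obtain ⟨i, -, hi⟩ := (Nat.dvd_prime_pow ht.out).1 (hj ▸ Subgroup.card_dvd_of_surjective
        (ρ.toHomUnits.subgroupMap D) (ρ.toHomUnits.subgroupMap_surjective D))
      rw [hi, Nat.cast_pow]
      exact pow_ne_zero _ htK)
  intro u
  have hd : u⁻¹ * z u ∈ D := Subgroup.subset_closure ⟨u, rfl⟩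
  have hfix : ∀ m : ℕ, γ ^ m * ρ.toHomUnits (u⁻¹ * z u) * (γ ^ m)⁻¹ = ρ.toHomUnits (u⁻¹ * z u) := by
    intro m
    induction m with
    | zero => simp
    | succ m ih =>
      rw [pow_succ, mul_inv_rev,
        show γ ^ m * γ * ρ.toHomUnits (u⁻¹ * z u) * (γ⁻¹ * (γ ^ m)⁻¹) =
          γ ^ m * (γ * ρ.toHomUnits (u⁻¹ * z u) * γ⁻¹) * (γ ^ m)⁻¹ by group,
        hall _ ⟨_, hd, rfl⟩, ih]
  have h1 := hfix (2 ^ N)
  rw [hγpow] at h1
  have h2 := hkill _ hd h1
  rw [map_mul, map_inv, inv_mul_eq_one] at h2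
  exact (congrArg Units.val h2).symm

/-- Inverted elements in a minimal moved group. -/
theorem exists_inverted_pair {r N : ℕ} [hr : Fact r.Prime] (hr2 : r ≠ 2) {R : Type*} [Group R] [Finite R]
    (hR : IsPGroup r R) (σ : MulAut R) (hσ : σ ^ 2 ^ (N + 1) = 1)
    (hmin : ∀ U : Subgroup R, U ≠ ⊤ → (∀ u ∈ U, σ u ∈ U) → ∀ u ∈ U, (σ ^ 2 ^ N) u = u)
    (hmoved : ∃ u, (σ ^ 2 ^ N) u ≠ u) (hnab : ∃ a b : R, a * b ≠ b * a) :
    (∀ S : Subgroup R, (∀ v, v⁻¹ * (σ ^ 2 ^ N) v ∈ S) → S = ⊤) ∧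
      ∃ u v : R, (σ ^ 2 ^ N) u = u⁻¹ ∧ (σ ^ 2 ^ N) v = v⁻¹ ∧ ⁅u, v⁆ ≠ 1 ∧
        ⁅u, v⁆ ∈ Subgroup.center R ∧ ⁅u, v⁆ ^ r = 1 ∧ (σ ^ 2 ^ N) ⁅u, v⁆ = ⁅u, v⁆ := by
  classical
  obtain ⟨u₀, hu₀⟩ := hmoved
  set z := σ ^ 2 ^ N with hz
  have hz2 : z ^ 2 = 1 := by rw [hz, ← pow_mul, ← pow_succ, hσ]
  have hzz : ∀ u, z (z u) = u := fun u => by rw [← MulAut.mul_apply, ← pow_two, hz2]; rfl
  set C : Subgroup R := z.toMonoidHom.eqLocus (MonoidHom.id R) with hCdef
  have hfixcoset : ∀ (M : Subgroup R), (∀ x ∈ M, z x ∈ M) → ∀ u, u⁻¹ * z u ∈ M →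
      ∃ c ∈ M, u * c ∈ C := fun M hM u hu => by
    refine exists_fixed_mem_coset (p := 2) (k := 1) z (by rw [pow_one, hz2]) M hM ?_ hu
    intro hd
    obtain ⟨k, hk⟩ := (hR.to_subgroup M).exists_card_eq
    exact hr2 ((Nat.prime_dvd_prime_iff_eq Nat.prime_two hr.out).1 (Nat.prime_two.dvd_of_dvd_pow (hk ▸ hd))).symm
  set D := Subgroup.closure (Set.range fun v : R => v⁻¹ * z v) with hD
  have hgen : ∀ v : R, v⁻¹ * z v ∈ D := fun v => Subgroup.subset_closure ⟨v, rfl⟩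
  have hDinv : ∀ u ∈ D, σ u ∈ D := by
    have h : D ≤ D.comap σ.toMonoidHom := by
      rw [hD, Subgroup.closure_le]
      rintro _ ⟨v, rfl⟩
      show σ (v⁻¹ * z v) ∈ D
      rw [map_mul, map_inv, hz, two_power_z_commute]
      exact hgen _
    exact fun u hu => h hu
  have hDtop : D = ⊤ := by
    by_contra hne
    have hfix := hmin D hne hDinv
    obtain ⟨c, hc, huc⟩ := hfixcoset D (fun x hx => by rw [hfix x hx]; exact hx) u₀ (hgen u₀)
    have h1 : z (u₀ * c) = u₀ * c := huc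
    rw [map_mul, hfix c hc] at h1
    exact hu₀ (mul_right_cancel h1)
  have hS : ∀ S : Subgroup R, (∀ v, v⁻¹ * z v ∈ S) → S = ⊤ := fun S h => by
    rw [eq_top_iff, ← hDtop, hD, Subgroup.closure_le]
    rintro _ ⟨v, rfl⟩
    exact h v
  refine ⟨hS, ?_⟩
  have hcentral : ∀ M : Subgroup R, M.Normal → (∀ f ∈ M, z f = f) → M ≤ Subgroup.center R := by
    intro M hM hfix f hf
    have h := hS (Subgroup.centralizer {f}) fun v => by
      rw [Subgroup.mem_centralizer_singleton_iff]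
      have h1 := hfix _ (hM.conj_mem f hf v)
      rw [map_mul, map_mul, map_inv, hfix f hf] at h1
      calc v⁻¹ * z v * f = v⁻¹ * (z v * f * (z v)⁻¹) * z v := by group
        _ = f * (v⁻¹ * z v) := by rw [h1]; group
    exact Subgroup.mem_center_iff.2 fun g =>
      Subgroup.mem_centralizer_singleton_iff.1 (h ▸ Subgroup.mem_top g : g ∈ Subgroup.centralizer {f})
  haveI := hR.isNilpotent
  haveI hntR : Nontrivial R := ⟨⟨z u₀, u₀, hu₀⟩⟩
  have hΦC : ∀ u ∈ frattini R, z u = u := hmin _ CfsgLib.PGroup.frattini_ne_top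
    fun u hu => Subgroup.characteristic_iff_le_comap.1 inferInstance σ hu
  have hΦZ : frattini R ≤ Subgroup.center R := hcentral _ inferInstance hΦC
  have hcomm : ∀ a b : R, ⁅a, b⁆ ∈ frattini R := fun a b =>
    CfsgLib.PGroup.commutator_le_frattini hR
      (Subgroup.commutator_mem_commutator (Subgroup.mem_top a) (Subgroup.mem_top b))
  obtain ⟨a, b, hab⟩ := hnab
  obtain ⟨x, y, hxy⟩ : ∃ x y : R, ¬ Commute (x⁻¹ * z x) (y⁻¹ * z y) := by
    by_contra hcon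
    push Not at hcon
    refine hab ?_
    have h1 : ∀ x, x⁻¹ * z x ∈ Subgroup.center R := fun x => by
      have h := hS (Subgroup.centralizer {x⁻¹ * z x}) fun v => Subgroup.mem_centralizer_singleton_iff.2 (hcon v x)
      exact Subgroup.mem_center_iff.2 fun g =>
        Subgroup.mem_centralizer_singleton_iff.1 (h ▸ Subgroup.mem_top g : g ∈ Subgroup.centralizer {x⁻¹ * z x})
    have h2 := hS _ h1
    exact Subgroup.mem_center_iff.1 (h2 ▸ Subgroup.mem_top b) a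
  have hinv : ∀ x, z (x⁻¹ * z x) = (x⁻¹ * z x)⁻¹ := fun x => by simp [hzz]
  have hcl : ∀ a b : R, ⁅a, b⁆ ∈ Subgroup.center R := fun a b => hΦZ (hcomm a b)
  refine ⟨x⁻¹ * z x, y⁻¹ * z y, hinv x, hinv y, fun h => hxy (commutatorElement_eq_one_iff_mul_comm.1 h),
    hcl _ _, ?_, hΦC _ (hcomm _ _)⟩
  rw [← commutator_pow hcl]
  exact commutatorElement_eq_one_iff_mul_comm.2
    (Subgroup.mem_center_iff.1 (hΦZ (CfsgLib.PGroup.pow_mem_frattini hR _)) _).symm

end CfsgLib.ShultGross
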