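import Cfsg.Agent.Lib.ShultGross.Eigen
import Cfsg.Agent.Lib.ShultGross.Module
import Cfsg.Agent.Lib.Solvable.CoprimeMulAction
import Cfsg.Agent.Lib.Transfer.Critical
import Cfsg.Agent.S0121
import Mathlib

/-!
The layer lemma for a fixed point free automorphism of two-power order.
-/

set_option autoImplicit false
set_option linter.style.haveILetI false
open scoped commutatorElement

namespace CfsgLib.ShultGross

universe u

/-- A representation of `T`, compatible with `s`, in a characteristic different from `t` and `2`,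
without eigenvalue one of the operator and not trivial on `k`. -/
def LayerRep {T : Type u} [Group T] (s : MulAut T) (P t : ℕ) (k : T) : Prop :=
  ∃ (l : ℕ) (_ : Fact l.Prime) (m : ℕ)
    (ρ : T →* Module.End (AlgebraicClosure (ZMod l)) (Fin m → AlgebraicClosure (ZMod l)))
    (X : Module.End (AlgebraicClosure (ZMod l)) (Fin m → AlgebraicClosure (ZMod l))),
    l ≠ t ∧ l ≠ 2 ∧ (∀ g, X * ρ g = ρ (s g) * X) ∧ X ^ P = 1 ∧
      ∑ i ∈ Finset.range P, X ^ i = 0 ∧ ρ k ≠ 1

theorem natCast_ne_zero_of_ne {l q : ℕ} [hl : Fact l.Prime] (hq : q.Prime) (h : q ≠ l) :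
    (q : AlgebraicClosure (ZMod l)) ≠ 0 := fun e => h <|
  ((Nat.prime_dvd_prime_iff_eq hl.out hq).1 <| by
    rw [← ZMod.natCast_eq_zero_iff]
    exact (algebraMap (ZMod l) (AlgebraicClosure (ZMod l))).injective (by rw [map_natCast, e, map_zero])).symm

variable {T : Type u} [Group T] [Finite T] {t N : ℕ} [ht : Fact t.Prime]

/-- An invariant abelian subgroup is centralized. -/
theorem abelian_sub_fixed (ht2 : t ≠ 2) (hT : IsPGroup t T) (s : MulAut T) (hs : s ^ 2 ^ (N + 1) = 1)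
    (hfaith : ∀ k : T, k ≠ 1 → LayerRep s (2 ^ (N + 1)) t k) (A : Subgroup T) (hA : ∀ x ∈ A, s x ∈ A)
    (hab : ∀ x ∈ A, ∀ y ∈ A, x * y = y * x) : ∀ x ∈ A, (s ^ 2 ^ N) x = x := by
  intro x hx
  by_contra hne
  obtain ⟨l, _, m, ρ, X, hlt, -, hconj, hX, hsum, hk⟩ :=
    hfaith (x⁻¹ * (s ^ 2 ^ N) x) (fun h => hne (inv_mul_eq_one.1 h).symm)
  obtain ⟨σA, hσA⟩ := CfsgLib.Solvable.exists_restrict s A hA
  have h := abelian_fixed (N := N) ht2 (fun a b : A => Subtype.ext (hab a a.2 b b.2)) (hT.to_subgroup A) σA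
    (MulEquiv.ext fun y => Subtype.ext (by rw [CfsgLib.Solvable.restrict_pow hσA, hs]; rfl))
    (natCast_ne_zero_of_ne ht.out (Ne.symm hlt)) (ρ.comp A.subtype) X
    (fun y => by rw [MonoidHom.comp_apply, MonoidHom.comp_apply, Subgroup.subtype_apply, Subgroup.subtype_apply, hσA]; exact hconj y)
    hX hsum ⟨x, hx⟩
  rw [MonoidHom.comp_apply, MonoidHom.comp_apply, Subgroup.subtype_apply, Subgroup.subtype_apply,
    CfsgLib.Solvable.restrict_pow hσA] at h
  exact hk (by rw [map_mul, h, ← map_mul, inv_mul_cancel, map_one])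

/-- The layer lemma. -/
theorem layer_fixed {r : ℕ} [hr : Fact r.Prime] (ht2 : t ≠ 2) (hr2 : r ≠ 2) (hrt : r ≠ t)
    (hT : IsPGroup t T) (s : MulAut T) (hs : s ^ 2 ^ (N + 1) = 1) (hfpf : ∀ x, s x = x → x = 1)
    (hfaith : ∀ k : T, k ≠ 1 → LayerRep s (2 ^ (N + 1)) t k)
    (R : Subgroup (MulAut T)) (hR : IsPGroup r R) (hRs : ∀ α ∈ R, s * α * s⁻¹ ∈ R) :
    ∀ α ∈ R, Commute (s ^ 2 ^ N) α := by
  classical
  set z := s ^ 2 ^ N with hz
  by_contra hcon
  obtain ⟨U, ⟨hUR, hUs, hUmoved⟩, hUmin⟩ := Set.Finite.exists_minimal (Set.toFinite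
    {U : Subgroup (MulAut T) | U ≤ R ∧ (∀ α ∈ U, s * α * s⁻¹ ∈ U) ∧ ¬ ∀ α ∈ U, Commute z α})
    ⟨R, le_rfl, hRs, hcon⟩
  have hUr : IsPGroup r U := hR.to_le hUR
  obtain ⟨θ, hθ⟩ := CfsgLib.Solvable.exists_restrict (MulAut.conj s) U
    (fun α hα => by rw [MulAut.conj_apply]; exact hUs α hα)
  have hθpow : ∀ (k : ℕ) (α : U), (((θ ^ k) α : U) : MulAut T) = s ^ k * α * (s ^ k)⁻¹ := fun k α => by
    rw [CfsgLib.Solvable.restrict_pow hθ, ← map_pow, MulAut.conj_apply]
  have hθN : θ ^ 2 ^ (N + 1) = 1 := MulEquiv.ext fun α => Subtype.ext (by rw [hθpow, hs]; simp)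
  have hfix_iff : ∀ α : U, (θ ^ 2 ^ N) α = α ↔ Commute z (α : MulAut T) := fun α => by
    rw [Subtype.ext_iff, hθpow, ← hz, mul_inv_eq_iff_eq_mul]
    rfl
  have hmin : ∀ V : Subgroup U, V ≠ ⊤ → (∀ α ∈ V, θ α ∈ V) → ∀ α ∈ V, (θ ^ 2 ^ N) α = α := by
    intro V hV hVθ α hα
    by_contra hne
    refine hV ?_
    have hle : U ≤ V.map U.subtype := hUmin ⟨(Subgroup.map_subtype_le V).trans hUR, ?_,
      fun h => hne ((hfix_iff α).2 (h _ ⟨α, hα, rfl⟩))⟩ (Subgroup.map_subtype_le V)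
    · refine Subgroup.eq_top_iff' V |>.2 fun β => ?_
      obtain ⟨β', hβ', hββ⟩ := hle β.2
      rwa [← Subtype.ext (a1 := β') (a2 := β) hββ]
    · rintro _ ⟨β, hβ, rfl⟩
      exact ⟨θ β, hVθ β hβ, by rw [Subgroup.subtype_apply, hθ, MulAut.conj_apply]; rfl⟩
  have hmoved : ∃ α : U, (θ ^ 2 ^ N) α ≠ α := by
    by_contra h
    push Not at h
    exact hUmoved fun α hα => (hfix_iff ⟨α, hα⟩).1 (h _)
  by_cases hnab : ∀ a b : U, a * b = b * a
  · -- abelian: the Frattini quotient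
    obtain ⟨α₀, hα₀⟩ := hmoved
    set Φ := frattini T
    letI : CommGroup (T ⧸ Φ) := { (inferInstance : Group (T ⧸ Φ)) with
      mul_comm := fun a b => by
        obtain ⟨x, rfl⟩ := QuotientGroup.mk_surjective a
        obtain ⟨y, rfl⟩ := QuotientGroup.mk_surjective b
        rw [← commutatorElement_eq_one_iff_mul_comm]
        refine (QuotientGroup.eq_one_iff _).2 (CfsgLib.PGroup.commutator_le_frattini hT ?_)
        exact Subgroup.commutator_mem_commutator (Subgroup.mem_top x) (Subgroup.mem_top y) }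
    have hexp : ∀ a : T ⧸ Φ, a ^ t = 1 := fun a => by
      obtain ⟨x, rfl⟩ := QuotientGroup.mk_surjective a
      exact (QuotientGroup.eq_one_iff _).2 (CfsgLib.PGroup.pow_mem_frattini hT x)
    let bar : MulAut T →* MulAut (T ⧸ Φ) :=
      { toFun := fun α => QuotientGroup.congr _ _ α (Subgroup.characteristic_iff_map_eq.1 inferInstance α)
        map_one' := MulEquiv.ext fun v => by
          obtain ⟨x, rfl⟩ := QuotientGroup.mk_surjective v
          rfl
        map_mul' := fun α β => MulEquiv.ext fun v => by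
          obtain ⟨x, rfl⟩ := QuotientGroup.mk_surjective v
          rfl }
    have hbarfpf : ∀ v, bar s v = v → v = 1 := by
      intro v hv
      obtain ⟨x, rfl⟩ := QuotientGroup.mk_surjective v
      have hncop : ¬ 2 ∣ Nat.card Φ := fun hd => by
        obtain ⟨k, hk⟩ := (hT.to_subgroup Φ).exists_card_eq
        exact ht2 ((Nat.prime_dvd_prime_iff_eq Nat.prime_two ht.out).1
          (Nat.prime_two.dvd_of_dvd_pow (hk ▸ hd))).symm
      obtain ⟨c, hc, hxc⟩ := exists_fixed_mem_coset (p := 2) (k := N + 1) s hs Φ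
        (fun y hy => Subgroup.characteristic_iff_le_comap.1 inferInstance s hy) hncop (QuotientGroup.eq.1 hv.symm)
      rw [mul_eq_one_iff_eq_inv.1 (hfpf _ hxc)]
      exact (QuotientGroup.eq_one_iff _).2 (inv_mem hc)
    obtain ⟨m, M, hM, hMsum⟩ := exists_rep (t := t) hexp
    have h := abelian_fixed (N := N) hr2 hnab hUr θ hθN (natCast_ne_zero_of_ne (l := t) hr.out hrt)
      (M.comp (bar.comp U.subtype)) (M (bar s))
      (fun α => by
        simp only [MonoidHom.comp_apply, Subgroup.subtype_apply, hθ, MulAut.conj_apply, ← map_mul,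
          inv_mul_cancel_right])
      (by rw [← map_pow, ← map_pow, hs, map_one, map_one])
      (hMsum (bar s) _ (by rw [← map_pow, hs, map_one]) hbarfpf) α₀
    simp only [MonoidHom.comp_apply, Subgroup.subtype_apply] at h
    set β := α₀⁻¹ * (θ ^ 2 ^ N) α₀ with hβ
    have hbar : bar (β : MulAut T) = 1 := by
      rw [hβ, Subgroup.coe_mul, Subgroup.coe_inv, map_mul, hM h, ← map_mul, inv_mul_cancel, map_one]
    obtain ⟨i, hi⟩ := hUr β
    have hβ1 : (β : MulAut T) = 1 := by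
      refine MulEquiv.ext fun x => ?_
      refine CfsgLib.Solvable.smul_eq_self_of_trivial_on_frattini_quotient
        (A := Subgroup.zpowers (β : MulAut T)) ?_ ?_ ⟨(β : MulAut T), Subgroup.mem_zpowers _⟩ x
      · obtain ⟨j, hj⟩ := (hT.to_subgroup (frattini T)).exists_card_eq
        rw [hj, Nat.card_zpowers]
        refine Nat.Coprime.coprime_dvd_left (orderOf_dvd_of_pow_eq_one (n := r ^ i) ?_)
          (Nat.Coprime.pow i j ((Nat.coprime_primes hr.out ht.out).2 hrt))
        exact congrArg Subtype.val hi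
      · rintro ⟨a, ha⟩ k
        have hker : bar a = 1 := (Subgroup.zpowers_le.2 (show (β : MulAut T) ∈ bar.ker from hbar)) ha
        have h2 : ((a k : T) : T ⧸ Φ) = (k : T ⧸ Φ) := DFunLike.congr_fun hker ((k : T) : T ⧸ Φ)
        exact QuotientGroup.eq.1 h2.symm
    refine hα₀ ?_
    have : β = 1 := Subtype.ext hβ1
    rw [hβ, inv_mul_eq_one] at this
    exact this.symm
  -- nonabelian
  push Not at hnab
  obtain ⟨hS, u, v, hu, hv, he1, heZ, her, hze⟩ := exists_inverted_pair hr2 hUr θ hθN hmin hmoved hnab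
  obtain ⟨C, hC, hC1, hC2, hC3⟩ := CfsgLib.Transfer.exists_critical hT
  haveI := hC
  have hCp := hT.to_subgroup C
  have hcl : ∀ x ∈ C, ∀ y ∈ C, ⁅x, y⁆ ∈ Subgroup.centralizer (C : Set T) := fun x hx y hy =>
    (hC2 (Subgroup.commutator_mem_commutator hx (Subgroup.mem_top y))).2
  have hcenter : ∀ g : C, (g : T) ∈ Subgroup.centralizer (C : Set T) → g ∈ Subgroup.center C := fun g hg =>
    Subgroup.mem_center_iff.2 fun h => Subtype.ext (Subgroup.mem_centralizer_iff.1 hg h h.2)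
  have hct : ∀ x ∈ C, ∀ y ∈ C, ⁅x, y⁆ ^ t = 1 := fun x hx y hy => by
    have hclC : ∀ a b : C, ⁅a, b⁆ ∈ Subgroup.center C := fun a b => hcenter _ (hcl a a.2 b b.2)
    have h := commutator_pow hclC ⟨x, hx⟩ ⟨y, hy⟩ t
    rw [commutatorElement_eq_one_iff_mul_comm.2 (Subgroup.mem_center_iff.1 (hcenter _
      (hC1 ⟨_, CfsgLib.PGroup.pow_mem_frattini hCp _, rfl⟩)) _).symm] at h
    exact (congrArg Subtype.val h).symm
  set Z := C ⊓ Subgroup.centralizer (C : Set T) with hZ
  have hCmap : ∀ (α : MulAut T) {x : T}, x ∈ C → α x ∈ C := fun α x hx =>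
    Subgroup.characteristic_iff_le_comap.1 hC α hx
  have hZinv : ∀ (α : MulAut T), ∀ x ∈ Z, α x ∈ Z := fun α x hx =>
    ⟨hCmap α hx.1, Subgroup.mem_centralizer_iff.2 fun y hy => by
      rw [← MulAut.apply_inv_self _ α y, ← map_mul, ← map_mul,
        Subgroup.mem_centralizer_iff.1 hx.2 _ (hCmap α⁻¹ hy)]⟩
  have hzZ : ∀ x ∈ Z, z x = x := abelian_sub_fixed ht2 hT s hs hfaith Z (hZinv s)
    (fun x hx y hy => (Subgroup.mem_centralizer_iff.1 hx.2 y hy.1).symm)
  -- `U` fixes `Z`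
  let SZ : Subgroup U :=
    { carrier := {α | ∀ x ∈ Z, (α : MulAut T) x = x}
      one_mem' := fun x _ => rfl
      mul_mem' := fun {α β} hα hβ x hx => by
        rw [Subgroup.coe_mul, MulAut.mul_apply, hβ x hx, hα x hx]
      inv_mem' := fun {α} hα x hx => by
        conv_lhs => rw [← hα x hx]
        rw [Subgroup.coe_inv, MulAut.inv_apply_self] }
  have hUZ : ∀ α : U, ∀ x ∈ Z, (α : MulAut T) x = x := by
    have htop := hS SZ fun w x hx => by
      rw [Subgroup.coe_mul, Subgroup.coe_inv, hθpow, ← hz, MulAut.mul_apply, MulAut.mul_apply,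
        MulAut.mul_apply, show (z⁻¹ : MulAut T) x = x by
          conv_lhs => rw [← hzZ x hx]
          rw [MulAut.inv_apply_self], hzZ _ (hZinv _ x hx), MulAut.inv_apply_self]
    exact fun α => (htop ▸ Subgroup.mem_top α : α ∈ SZ)
  set e := ⁅u, v⁆ with he
  have hecomm : ∀ α : U, Commute (e : MulAut T) α := fun α =>
    congrArg Subtype.val (Subgroup.mem_center_iff.1 heZ α).symm
  have her' : (e : MulAut T) ^ r = 1 := congrArg Subtype.val her
  -- `e` moves the critical subgroup modulo its centre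
  obtain ⟨c, hc, hcZ⟩ : ∃ c ∈ C, c⁻¹ * (e : MulAut T) c ∉ Z := by
    by_contra hno
    push Not at hno
    refine he1 (Subtype.ext ?_)
    refine Cfsg.Agent.S0121.result hT C hC hC1 hC2 hC3 _ ?_ fun c hc => ?_
    · exact Nat.Coprime.coprime_dvd_left (orderOf_dvd_of_pow_eq_one her')
        ((Nat.coprime_primes hr.out ht.out).2 hrt)
    · set w := c⁻¹ * (e : MulAut T) c with hw
      have hwfix : (e : MulAut T) w = w := hUZ e w (hno c hc)
      have hk : ∀ k : ℕ, ((e : MulAut T) ^ k) c = c * w ^ k := by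
        intro k
        induction k with
        | zero => simp
        | succ k ih =>
          rw [pow_succ', MulAut.mul_apply, ih, map_mul, map_pow, hwfix,
            show (e : MulAut T) c = c * w by rw [hw]; group, mul_assoc, ← pow_succ']
      have h := hk r
      rw [her', MulAut.one_apply, left_eq_mul] at h
      obtain ⟨l, hl⟩ := hT w
      have h2 := pow_gcd_eq_one.2 ⟨h, hl⟩
      rw [(((Nat.coprime_primes hr.out ht.out).2 hrt).pow_right l).gcd_eq_one, pow_one] at h2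
      exact (inv_mul_eq_one.1 h2).symm
  have hwC : c⁻¹ * (e : MulAut T) c ∈ C :=
    mul_mem (inv_mem hc) (Subgroup.characteristic_iff_le_comap.1 hC _ hc)
  obtain ⟨d, hd, hcd⟩ : ∃ d ∈ C, ⁅c⁻¹ * (e : MulAut T) c, d⁆ ≠ 1 := by
    by_contra hno
    push Not at hno
    exact hcZ ⟨hwC, Subgroup.mem_centralizer_iff.2 fun d hd =>
      (commutatorElement_eq_one_iff_mul_comm.1 (hno d hd)).symm⟩
  obtain ⟨l, _, m, ρ, X, hlt, hl2, hconj, hX, hsum, hk⟩ := hfaith _ hcd
  obtain ⟨i, hi⟩ := hUr u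
  obtain ⟨j, hj⟩ := hUr v
  have hinv : ∀ w : U, (θ ^ 2 ^ N) w = w⁻¹ → z * (w : MulAut T) = (w : MulAut T)⁻¹ * z := by
    intro w hw
    have := congrArg Subtype.val hw
    rw [hθpow, ← hz, Subgroup.coe_inv, mul_inv_eq_iff_eq_mul] at this
    exact this
  refine eigen_false (r := r) (N := N) ht2 hr2 hrt hT s hs C hcl hct hzZ (u := (u : MulAut T))
    (v := (v : MulAut T)) (e := (e : MulAut T)) (i := i) (j := j)
    (congrArg Subtype.val hi) (congrArg Subtype.val hj) (fun x hx => hUZ u x hx) (fun x hx => hUZ v x hx)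
    rfl (hecomm u) (hecomm v) her' ((hfix_iff e).1 hze) (hinv u hu) (hinv v hv) (fun k => ?_)
    (by exact_mod_cast natCast_ne_zero_of_ne (l := l) Nat.prime_two (Ne.symm hl2))
    (natCast_ne_zero_of_ne (l := l) ht.out (Ne.symm hlt)) ρ X hconj hX hsum hc hd hk
  have h := hθpow k ((θ ^ k)⁻¹ e)
  rw [MulAut.apply_inv_self] at h
  have h' : (((θ ^ k)⁻¹ e : U) : MulAut T) = (s ^ k)⁻¹ * (e : MulAut T) * s ^ k := by
    rw [h]; group
  rw [← h']
  exact hecomm _

end CfsgLib.ShultGross
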