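import Cfsg.Agent.Lib.ShultGross.Inverted
import Mathlib

/-!
An involution, two inverted automorphisms with central commutator and an alternating pairing on a
class-two characteristic subgroup.
-/

set_option autoImplicit false
set_option linter.style.haveILetI false
open scoped commutatorElement

namespace CfsgLib.ShultGross

variable {T : Type*} [Group T] {K : Type*} [Field K]

/-- An alternating pairing of `C` killing `Z`. -/
structure Pairing (T : Type*) [Group T] (K : Type*) [Field K] (C Z : Subgroup T) (t : ℕ) where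
  φ : T → T → K
  hZC : Z ≤ C
  hcomm : ∀ x ∈ C, ∀ y ∈ C, ⁅x, y⁆ ∈ Z
  mul_left : ∀ x ∈ C, ∀ x' ∈ C, ∀ y ∈ C, φ (x * x') y = φ x y * φ x' y
  mul_right : ∀ x ∈ C, ∀ y ∈ C, ∀ y' ∈ C, φ x (y * y') = φ x y * φ x y'
  self : ∀ x ∈ C, φ x x = 1
  pow_eq : ∀ x ∈ C, ∀ y ∈ C, φ x y ^ t = 1
  zero : ∀ x ∈ Z, ∀ y ∈ C, φ x y = 1

namespace Pairing

variable {C Z : Subgroup T} {t : ℕ} (P : Pairing T K C Z t) [ht : Fact t.Prime]

include ht in
theorem ne_zero {x y : T} (hx : x ∈ C) (hy : y ∈ C) : P.φ x y ≠ 0 := fun h => by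
  have := P.pow_eq x hx y hy
  rw [h, zero_pow ht.out.ne_zero] at this
  exact zero_ne_one this

include ht in
theorem symm {x y : T} (hx : x ∈ C) (hy : y ∈ C) : P.φ y x = (P.φ x y)⁻¹ := by
  have h := P.self (x * y) (mul_mem hx hy)
  rw [P.mul_left x hx y hy _ (mul_mem hx hy), P.mul_right x hx x hx y hy, P.mul_right y hy x hx y hy,
    P.self x hx, P.self y hy, one_mul, mul_one] at h
  exact eq_inv_of_mul_eq_one_right h

include ht in
theorem inv_left {x y : T} (hx : x ∈ C) (hy : y ∈ C) : P.φ x⁻¹ y = (P.φ x y)⁻¹ := by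
  have h := P.mul_left x⁻¹ (inv_mem hx) x hx y hy
  rw [inv_mul_cancel, P.zero 1 (one_mem _) y hy] at h
  exact eq_inv_of_mul_eq_one_left h.symm

theorem pow_left {x y : T} (hx : x ∈ C) (hy : y ∈ C) (k : ℕ) : P.φ (x ^ k) y = P.φ x y ^ k := by
  induction k with
  | zero => simpa using P.zero 1 (one_mem _) y hy
  | succ k ih => rw [pow_succ, P.mul_left _ (pow_mem hx k) x hx y hy, ih, pow_succ]

include ht in
theorem pow_right {x y : T} (hx : x ∈ C) (hy : y ∈ C) (k : ℕ) : P.φ x (y ^ k) = P.φ x y ^ k := by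
  rw [P.symm (pow_mem hy k) hx, P.pow_left hy hx, P.symm hx hy, inv_pow, inv_inv]

/-- The radical. -/
def rad : Subgroup T where
  carrier := {x | x ∈ C ∧ ∀ y ∈ C, P.φ x y = 1}
  one_mem' := ⟨one_mem _, fun y hy => P.zero 1 (one_mem _) y hy⟩
  mul_mem' := fun {x x'} hx hx' => ⟨mul_mem hx.1 hx'.1, fun y hy => by
    rw [P.mul_left x hx.1 x' hx'.1 y hy, hx.2 y hy, hx'.2 y hy, one_mul]⟩
  inv_mem' := fun {x} hx => ⟨inv_mem hx.1, fun y hy => by
    have h := P.mul_left x⁻¹ (inv_mem hx.1) x hx.1 y hy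
    rw [inv_mul_cancel, P.zero 1 (one_mem _) y hy, hx.2 y hy, mul_one] at h
    exact h.symm⟩

theorem rad_le : P.rad ≤ C := fun _ h => h.1

theorem le_rad : Z ≤ P.rad := fun x hx => ⟨P.hZC hx, P.zero x hx⟩

theorem conj_rad {w y : T} (hw : w ∈ P.rad) (hy : y ∈ C) : y * w * y⁻¹ ∈ P.rad := by
  rw [show y * w * y⁻¹ = ⁅y, w⁆ * w by simp only [commutatorElement_def]; group]
  exact mul_mem (P.le_rad (P.hcomm y hy w hw.1)) hw

/-- Congruence modulo the radical. -/
def Cg (x x' : T) : Prop := x⁻¹ * x' ∈ P.rad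

theorem Cg.refl (x : T) : P.Cg x x := by simp [Cg, one_mem]

theorem Cg.symm {x x' : T} (h : P.Cg x x') : P.Cg x' x := by
  have := inv_mem h
  simpa [Cg] using this

theorem Cg.trans {x x' x'' : T} (h : P.Cg x x') (h' : P.Cg x' x'') : P.Cg x x'' := by
  have := mul_mem h h'
  simpa [Cg, mul_assoc] using this

theorem Cg.mul {x x' y y' : T} (h : P.Cg x x') (h' : P.Cg y y') (hy : y ∈ C) :
    P.Cg (x * y) (x' * y') := by
  have h1 := mul_mem (P.conj_rad h (inv_mem hy)) h'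
  simpa [Cg, mul_assoc] using h1

theorem Cg.pow {x x' : T} (h : P.Cg x x') (hx : x ∈ C) (k : ℕ) : P.Cg (x ^ k) (x' ^ k) := by
  induction k with
  | zero => simpa using Cg.refl P (1 : T)
  | succ k ih => rw [pow_succ, pow_succ]; exact Cg.mul P ih h hx

variable [hC : C.Characteristic]

include hC in
omit ht in
theorem map_mem (_P : Pairing T K C Z t) (α : MulAut T) {x : T} (hx : x ∈ C) : α x ∈ C :=
  Subgroup.characteristic_iff_le_comap.1 hC α hx

/-- The automorphisms preserving the pairing. -/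
def stab : Subgroup (MulAut T) where
  carrier := {α | ∀ x ∈ C, ∀ y ∈ C, P.φ (α x) (α y) = P.φ x y}
  one_mem' := fun x _ y _ => rfl
  mul_mem' := fun {α β} hα hβ x hx y hy => by
    rw [MulAut.mul_apply, MulAut.mul_apply, hα _ (P.map_mem β hx) _ (P.map_mem β hy), hβ x hx y hy]
  inv_mem' := fun {α} hα x hx y hy => by
    conv_rhs => rw [← MulAut.apply_inv_self _ α x, ← MulAut.apply_inv_self _ α y]
    exact (hα _ (P.map_mem α⁻¹ hx) _ (P.map_mem α⁻¹ hy)).symm

theorem rad_map {α : MulAut T} (hα : α ∈ P.stab) {x : T} (hx : x ∈ P.rad) : α x ∈ P.rad := by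
  refine ⟨P.map_mem α hx.1, fun y hy => ?_⟩
  rw [← MulAut.apply_inv_self _ α y, hα x hx.1 _ (P.map_mem α⁻¹ hy)]
  exact hx.2 _ (P.map_mem α⁻¹ hy)

theorem Cg.map {α : MulAut T} (hα : α ∈ P.stab) {x x' : T} (h : P.Cg x x') : P.Cg (α x) (α x') := by
  have := P.rad_map hα h
  rwa [map_mul, map_inv] at this

/-- Automorphisms fixing `w` modulo the radical. -/
def fixMod (w : T) : Subgroup (MulAut T) where
  carrier := {α | α ∈ P.stab ∧ P.Cg (α w) w}
  one_mem' := ⟨one_mem _, Cg.refl P w⟩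
  mul_mem' := fun {α β} hα hβ => ⟨mul_mem hα.1 hβ.1, Cg.trans P (Cg.map P hα.1 hβ.2) hα.2⟩
  inv_mem' := fun {α} hα => ⟨inv_mem hα.1, by
    have := Cg.map P (inv_mem hα.1) hα.2
    rw [MulAut.inv_apply_self] at this
    exact Cg.symm P this⟩

/-- An inverted automorphism fixes what the involution fixes with its image. -/
theorem mem_fixMod_of_inverted {z α : MulAut T} {n : ℕ} (hαn : α ^ n = 1) (hn : Nat.Coprime 2 n)
    (hα : α ∈ P.stab) (hzα : z * α = α⁻¹ * z) {x : T} (h1 : P.Cg x (z x))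
    (h2 : P.Cg (α x) (z (α x))) : α ∈ P.fixMod x := by
  refine ⟨hα, ?_⟩
  have h3 : P.Cg (α x) (α⁻¹ x) := by
    refine Cg.trans P h2 ?_
    rw [← MulAut.mul_apply, hzα, MulAut.mul_apply]
    exact Cg.symm P (Cg.map P (inv_mem hα) h1)
  have h4 := Cg.map P hα h3
  rw [MulAut.apply_inv_self] at h4
  have h5 : α ^ 2 ∈ P.fixMod x := ⟨pow_mem hα 2, by rwa [pow_two]⟩
  obtain ⟨k, hk⟩ := exists_pow_eq_self_of_coprime (x := α)
    (Nat.Coprime.coprime_dvd_right (orderOf_dvd_of_pow_eq_one hαn) hn)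
  exact (hk ▸ pow_mem h5 k : α ∈ P.fixMod x).2

end Pairing

/-- The part moved by an involution, together with `Z`. -/
def movedPart (z : MulAut T) (C Z : Subgroup T) : Subgroup T :=
  Subgroup.closure ((fun x => x⁻¹ * z x) '' (C : Set T)) ⊔ Z

theorem movedPart_le {z : MulAut T} {C Z : Subgroup T} [hC : C.Characteristic] (hZ : Z ≤ C) :
    movedPart z C Z ≤ C := by
  refine sup_le ?_ hZ
  rw [Subgroup.closure_le]
  rintro _ ⟨x, hx, rfl⟩
  exact mul_mem (inv_mem hx) (Subgroup.characteristic_iff_le_comap.1 hC z hx)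

theorem movedPart_map {z α : MulAut T} {C Z : Subgroup T} [hC : C.Characteristic]
    (hcomm : ∀ x, α (z x) = z (α x)) (hαZ : ∀ x ∈ Z, α x ∈ Z) {x : T} (hx : x ∈ movedPart z C Z) :
    α x ∈ movedPart z C Z := by
  have h : movedPart z C Z ≤ (movedPart z C Z).comap α.toMonoidHom := by
    refine sup_le ?_ fun y hy => Subgroup.mem_sup_right (hαZ y hy)
    rw [Subgroup.closure_le]
    rintro _ ⟨y, hy, rfl⟩
    refine Subgroup.mem_sup_left (Subgroup.subset_closure ⟨α y, ?_, ?_⟩)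
    · exact Subgroup.characteristic_iff_le_comap.1 hC α hy
    · show (α y)⁻¹ * z (α y) = α (y⁻¹ * z y)
      rw [map_mul, map_inv, hcomm]
  exact h hx

namespace Pairing

variable {C Z : Subgroup T} {t : ℕ} (P : Pairing T K C Z t) [ht : Fact t.Prime] [hC : C.Characteristic]
variable {z : MulAut T}

include P

theorem moved_inverted (hzz : ∀ x, z (z x) = x) (hzZ : ∀ x ∈ Z, z x = x) {x : T}
    (hx : x ∈ movedPart z C Z) : z x * x ∈ Z := by
  have hcl : ∀ a ∈ Z, ∀ b ∈ C, b * a * b⁻¹ ∈ Z := fun a ha b hb => by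
    rw [show b * a * b⁻¹ = ⁅b, a⁆ * a by simp only [commutatorElement_def]; group]
    exact mul_mem (P.hcomm b hb a (P.hZC ha)) ha
  let S : Subgroup T :=
    { carrier := {x | x ∈ C ∧ z x * x ∈ Z}
      one_mem' := ⟨one_mem _, by rw [map_one, one_mul]; exact one_mem _⟩
      mul_mem' := fun {a b} ha hb => by
        refine ⟨mul_mem ha.1 hb.1, ?_⟩
        have hc := P.hcomm (z b) (P.map_mem z hb.1) a ha.1
        rw [show z (a * b) * (a * b) = z a * ⁅z b, a⁆ * (z a)⁻¹ * (z a * a) * (z b * b) by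
          rw [map_mul]; simp only [commutatorElement_def]; group]
        exact mul_mem (mul_mem (hcl _ hc (z a) (P.map_mem z ha.1)) ha.2) hb.2
      inv_mem' := fun {a} ha => by
        refine ⟨inv_mem ha.1, ?_⟩
        rw [map_inv, show (z a)⁻¹ * a⁻¹ = (z a)⁻¹ * a⁻¹ * (z a * a) * (z a * a)⁻¹ by group]
        refine mul_mem ?_ (inv_mem ha.2)
        rw [show (z a)⁻¹ * a⁻¹ * (z a * a) = ⁅(z a)⁻¹, a⁻¹⁆ by simp only [commutatorElement_def]; group]
        exact P.hcomm _ (inv_mem (P.map_mem z ha.1)) _ (inv_mem ha.1) }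
  have h : movedPart z C Z ≤ S := by
    refine sup_le ?_ fun y hy => ⟨P.hZC hy, by rw [hzZ y hy]; exact mul_mem hy hy⟩
    rw [Subgroup.closure_le]
    rintro _ ⟨y, hy, rfl⟩
    refine ⟨mul_mem (inv_mem hy) (P.map_mem z hy), ?_⟩
    simp [hzz, one_mem]
  exact (h hx).2

theorem moved_fixed (ht2 : t ≠ 2) (hT : IsPGroup t T) (hzz : ∀ x, z (z x) = x)
    (hzZ : ∀ x ∈ Z, z x = x) {x : T} (hx : x ∈ movedPart z C Z) (hfix : z x = x) : x ∈ Z := by
  have h := P.moved_inverted hzz hzZ hx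
  rw [hfix, ← pow_two] at h
  obtain ⟨k, hk⟩ := exists_sq_pow ht2 hT x
  exact hk ▸ pow_mem h k

theorem moved_decomp [Finite T] (ht2 : t ≠ 2) (hT : IsPGroup t T) (hzz : ∀ x, z (z x) = x)
    (hzZ : ∀ x ∈ Z, z x = x) {x : T} (hx : x ∈ C) :
    ∃ k ∈ movedPart z C Z, z (x * k) = x * k := by
  refine exists_fixed_mem_coset (p := 2) (k := 1) z (MulEquiv.ext fun y => ?_) _
    (fun y hy => movedPart_map (fun _ => rfl) (fun w hw => by rw [hzZ w hw]; exact hw) hy) ?_
    (Subgroup.mem_sup_left (Subgroup.subset_closure ⟨x, hx, rfl⟩))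
  · rw [pow_one, pow_two, MulAut.mul_apply, hzz]; rfl
  · intro hd
    obtain ⟨k, hk⟩ := (hT.to_subgroup (movedPart z C Z)).exists_card_eq
    exact ht2 ((Nat.prime_dvd_prime_iff_eq Nat.prime_two ht.out).1 (Nat.prime_two.dvd_of_dvd_pow (hk ▸ hd))).symm

theorem moved_ortho (ht2 : t ≠ 2) (hzz : ∀ x, z (z x) = x) (hzZ : ∀ x ∈ Z, z x = x) (hz : z ∈ P.stab)
    {x g : T} (hx : x ∈ movedPart z C Z) (hg : g ∈ C) (hgfix : z g = g) : P.φ x g = 1 := by
  have hxC := movedPart_le P.hZC hx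
  have h1 := hz x hxC g hg
  have hζ := P.moved_inverted hzz hzZ hx
  rw [hgfix, show z x = (z x * x) * x⁻¹ by group,
    P.mul_left _ (P.hZC hζ) _ (inv_mem hxC) g hg, P.zero _ hζ g hg, one_mul, P.inv_left hxC hg] at h1
  have h1' : P.φ x g * P.φ x g = 1 := by
    nth_rw 1 [← h1]
    exact inv_mul_cancel₀ (P.ne_zero hxC hg)
  have h2 := pow_gcd_eq_one.2 ⟨(pow_two (P.φ x g)).trans h1', P.pow_eq x hxC g hg⟩
  rwa [((Nat.coprime_primes Nat.prime_two ht.out).2 (Ne.symm ht2)).gcd_eq_one, pow_one] at h2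

theorem moved_rad [Finite T] (ht2 : t ≠ 2) (hT : IsPGroup t T) (hzz : ∀ x, z (z x) = x)
    (hzZ : ∀ x ∈ Z, z x = x) (hz : z ∈ P.stab) {x : T} (hx : x ∈ movedPart z C Z)
    (h : ∀ y ∈ movedPart z C Z, P.φ x y = 1) : x ∈ P.rad := by
  have hxC := movedPart_le P.hZC hx
  refine ⟨hxC, fun y hy => ?_⟩
  obtain ⟨k, hk, hfix⟩ := P.moved_decomp ht2 hT hzz hzZ hy
  have hkC := movedPart_le P.hZC hk
  have h1 := P.moved_ortho ht2 hzz hzZ hz hx (mul_mem hy hkC) hfix
  rwa [P.mul_right x hxC y hy k hkC, h k hk, mul_one] at h1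

/-- The commutator of two inverted automorphisms acts nontrivially on the moved part. -/
theorem moved_nontrivial [Finite T] (ht2 : t ≠ 2) (hT : IsPGroup t T) (hzz : ∀ x, z (z x) = x)
    (hzZ : ∀ x ∈ Z, z x = x) (hz : z ∈ P.stab) {r : ℕ} [hr : Fact r.Prime] (hr2 : r ≠ 2) (hrt : r ≠ t)
    {u v e : MulAut T} {i j : ℕ} (hui : u ^ r ^ i = 1) (hvj : v ^ r ^ j = 1)
    (hu : u ∈ P.stab) (hv : v ∈ P.stab) (he : e = ⁅u, v⁆) (heu : Commute e u) (hev : Commute e v)
    (her : e ^ r = 1) (hze : Commute z e) (hzu : z * u = u⁻¹ * z) (hzv : z * v = v⁻¹ * z)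
    {c d : T} (hc : c ∈ C) (hd : d ∈ C) (hcd : P.φ (c⁻¹ * e c) d ≠ 1) :
    ∃ x ∈ movedPart z C Z, x⁻¹ * e x ∉ P.rad := by
  by_contra hno
  push Not at hno
  have he' : e ∈ P.stab := by
    rw [he, commutatorElement_def]
    exact mul_mem (mul_mem (mul_mem hu hv) (inv_mem hu)) (inv_mem hv)
  have h2r : Nat.Coprime 2 r := (Nat.coprime_primes Nat.prime_two hr.out).2 (Ne.symm hr2)
  have hfixe : ∀ w, P.Cg w (z w) → P.Cg (u w) (z (u w)) → P.Cg (v w) (z (v w)) → P.Cg (e w) w := by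
    intro w h1 h2 h3
    have hu' := P.mem_fixMod_of_inverted hui (h2r.pow_right i) hu hzu h1 h2
    have hv' := P.mem_fixMod_of_inverted hvj (h2r.pow_right j) hv hzv h1 h3
    have he2 : e ∈ P.fixMod w := by
      rw [he, commutatorElement_def]
      exact mul_mem (mul_mem (mul_mem hu' hv') (inv_mem hu')) (inv_mem hv')
    exact he2.2
  -- the displacement of every element is fixed modulo the radical
  have hkey : ∀ x ∈ C, P.Cg (x⁻¹ * e x) (z (x⁻¹ * e x)) := by
    intro x hx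
    obtain ⟨k, hk, hfix⟩ := P.moved_decomp ht2 hT hzz hzZ hx
    have hkC := movedPart_le P.hZC hk
    set g := x * k with hg
    have hgC : g ∈ C := mul_mem hx hkC
    have hwfix : z (g⁻¹ * e g) = g⁻¹ * e g := by
      rw [map_mul, map_inv, hfix, ← MulAut.mul_apply, hze.eq, MulAut.mul_apply, hfix]
    have hwC : g⁻¹ * e g ∈ C := mul_mem (inv_mem hgC) (P.map_mem e hgC)
    have h1 : P.Cg (x⁻¹ * e x) (g⁻¹ * e g) := by
      have h2 : P.Cg (k⁻¹ * (x⁻¹ * e x) * k) (g⁻¹ * e g) := by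
        rw [show g⁻¹ * e g = k⁻¹ * (x⁻¹ * e x) * e k by rw [hg, map_mul]; group]
        exact Cg.mul P (Cg.refl P _) (hno k hk) hkC
      refine Cg.trans P ?_ h2
      refine P.le_rad ?_
      rw [show (x⁻¹ * e x)⁻¹ * (k⁻¹ * (x⁻¹ * e x) * k) = ⁅(x⁻¹ * e x)⁻¹, k⁻¹⁆ by
        simp only [commutatorElement_def]; group]
      exact P.hcomm _ (inv_mem (mul_mem (inv_mem hx) (P.map_mem e hx))) _ (inv_mem hkC)
    refine Cg.trans P h1 ?_
    have := Cg.map P hz (Cg.symm P h1)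
    rwa [hwfix] at this
  set w := c⁻¹ * e c with hw
  have hwC : w ∈ C := mul_mem (inv_mem hc) (P.map_mem e hc)
  have hew : P.Cg (e w) w := by
    refine hfixe w (hkey c hc) ?_ ?_
    · rw [show u w = (u c)⁻¹ * e (u c) by
        rw [hw, map_mul, map_inv, ← MulAut.mul_apply, ← heu.eq, MulAut.mul_apply]]
      exact hkey _ (P.map_mem u hc)
    · rw [show v w = (v c)⁻¹ * e (v c) by
        rw [hw, map_mul, map_inv, ← MulAut.mul_apply, ← hev.eq, MulAut.mul_apply]]
      exact hkey _ (P.map_mem v hc)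
  have hpow : ∀ m : ℕ, P.Cg ((e ^ m) c) (c * w ^ m) := by
    intro m
    induction m with
    | zero => simpa using Cg.refl P c
    | succ m ih =>
      rw [pow_succ', MulAut.mul_apply]
      refine Cg.trans P (Cg.map P he' ih) ?_
      rw [map_mul, map_pow, show e c = c * w by rw [hw]; group, pow_succ' w, ← mul_assoc c w (w ^ m)]
      exact Cg.mul P (Cg.refl P _) (Cg.pow P hew (P.map_mem e hwC) m) (pow_mem (P.map_mem e hwC) m)
  have h1 := hpow r
  rw [her, MulAut.one_apply] at h1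
  have h2 : w ^ r ∈ P.rad := by simpa [Cg] using h1
  obtain ⟨l, hl⟩ := hT w
  obtain ⟨k, hk⟩ := exists_pow_eq_self_of_coprime (x := w) (n := r)
    (Nat.Coprime.coprime_dvd_right (orderOf_dvd_of_pow_eq_one hl)
      (((Nat.coprime_primes hr.out ht.out).2 hrt).pow_right l))
  exact hcd ((hk ▸ pow_mem h2 k : w ∈ P.rad).2 d hd)

end Pairing

end CfsgLib.ShultGross
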